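import Mathlib

/-!
Abelian groups of odd order fixing an anisotropic quadratic map on an elementary abelian `2`-group:
the kernels of the fixed point free pieces are respected by everything acting trivially on the values.
-/

set_option autoImplicit false
set_option linter.unusedSectionVars false
set_option linter.style.haveILetI false

namespace CfsgLib.TwoLength

open Finset

variable {Γ M V : Type*} [Group Γ] [Finite Γ] [CommGroup M] [Finite M] [CommGroup V]

/-- An anisotropic quadratic map between groups of exponent two, equivariant for a group. -/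
structure QuadData (ρ : Γ →* MulAut M) (σ : Γ →* MulAut V) (q : M → V) (β : M → M → V) : Prop where
  sqM : ∀ x : M, x * x = 1
  sqV : ∀ v : V, v * v = 1
  map_mul : ∀ x y, q (x * y) = q x * q y * β x y
  add_right : ∀ x y z, β x (y * z) = β x y * β x z
  aniso : ∀ x, q x = 1 → x = 1
  equiv : ∀ g x, q (ρ g x) = σ g (q x)

variable {ρ : Γ →* MulAut M} {σ : Γ →* MulAut V} {q : M → V} {β : M → M → V}

namespace QuadData

theorem symm (h : QuadData ρ σ q β) (x y : M) : β x y = β y x := by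
  have h1 := h.map_mul x y
  rw [mul_comm x y, h.map_mul y x, mul_comm (q y) (q x)] at h1
  exact (mul_left_cancel h1).symm

theorem one_right (h : QuadData ρ σ q β) (x : M) : β x 1 = 1 := by
  have h1 := h.add_right x 1 1
  rw [one_mul] at h1
  exact left_eq_mul.mp h1

theorem map_one (h : QuadData ρ σ q β) : q 1 = 1 := by
  have h1 := h.map_mul 1 1
  rw [one_mul, h.one_right, mul_one, h.sqV] at h1
  exact h1

theorem diag (h : QuadData ρ σ q β) (x : M) : β x x = 1 := by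
  have h1 := h.map_mul x x
  rw [h.sqM, h.map_one, h.sqV, one_mul] at h1
  exact h1.symm

theorem beta_equiv (h : QuadData ρ σ q β) (g : Γ) (x y : M) :
    β (ρ g x) (ρ g y) = σ g (β x y) := by
  have h1 := h.map_mul (ρ g x) (ρ g y)
  rw [← (ρ g).map_mul, h.equiv, h.equiv, h.equiv, h.map_mul, (σ g).map_mul, (σ g).map_mul] at h1
  exact (mul_left_cancel h1).symm

theorem beta_prod (h : QuadData ρ σ q β) (x : M) (f : ℕ → M) :
    ∀ n, β x (∏ i ∈ range n, f i) = ∏ i ∈ range n, β x (f i) := by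
  intro n
  induction n with
  | zero => simpa using h.one_right x
  | succ n ih => rw [prod_range_succ, prod_range_succ, h.add_right, ih]

theorem map_prod (h : QuadData ρ σ q β) (f : ℕ → M) :
    ∀ n, (∀ i j, i < j → j < n → β (f i) (f j) = 1) →
      q (∏ i ∈ range n, f i) = ∏ i ∈ range n, q (f i) := by
  intro n
  induction n with
  | zero => intro _; simpa using h.map_one
  | succ n ih =>
    intro hf
    rw [prod_range_succ, prod_range_succ, h.map_mul, ih (fun i j hij hj => hf i j hij (by omega)),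
      h.symm _ (f n), h.beta_prod,
      (prod_eq_one fun i hi => (h.symm _ _).trans (hf i n (mem_range.mp hi) (by omega)) :
        ∏ i ∈ range n, β (f n) (f i) = 1), mul_one]

end QuadData

/-- Rotating the product of an orbit. -/
theorem map_prod_range {Γ M : Type*} [Group Γ] [CommGroup M] (ρ : Γ →* MulAut M) (a : Γ) (n : ℕ)
    (y : M) (hy : ρ (a ^ n) y = y) :
    ρ a (∏ j ∈ range n, ρ (a ^ j) y) = ∏ j ∈ range n, ρ (a ^ j) y := by
  rw [map_prod]
  have h1 : ∏ j ∈ range n, ρ a (ρ (a ^ j) y) = ∏ j ∈ range n, ρ (a ^ (j + 1)) y :=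
    prod_congr rfl fun j _ => by rw [pow_succ', map_mul ρ, MulAut.mul_apply]
  rw [h1]
  have h2 := prod_range_succ' (fun j => ρ (a ^ j) y) n
  have h3 := prod_range_succ (fun j => ρ (a ^ j) y) n
  rw [h3] at h2
  simp only [hy, pow_zero, _root_.map_one, MulAut.one_apply] at h2
  exact (mul_right_cancel h2).symm

theorem eq_one_of_odd_pow {M : Type*} [Monoid M] {x : M} (h2 : x * x = 1) {n : ℕ} (hn : Odd n)
    (h : x ^ n = 1) : x = 1 := by
  obtain ⟨k, rfl⟩ := hn
  rwa [pow_succ, pow_mul, pow_two, h2, one_pow, one_mul] at h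

/-- A piece `W` on which `A / K` acts fixed point freely. -/
structure IsBlock (ρ : Γ →* MulAut M) (A K : Subgroup Γ) (W : Subgroup M) : Prop where
  le : K ≤ A
  ne_bot : W ≠ ⊥
  invariant : ∀ a ∈ A, ∀ y ∈ W, ρ a y ∈ W
  fixes : ∀ k ∈ K, ∀ y ∈ W, ρ k y = y
  fpf : ∀ a ∈ A, a ∉ K → ∀ y ∈ W, ρ a y = y → y = 1

/-- The hypotheses on the abelian group `A`. -/
structure OddAbelian (σ : Γ →* MulAut V) (A : Subgroup Γ) (r : ℕ) : Prop where
  prime : r.Prime
  odd : Odd r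
  comm : ∀ a ∈ A, ∀ b ∈ A, a * b = b * a
  pow_eq : ∀ a ∈ A, a ^ r = 1
  trivial : ∀ a ∈ A, σ a = 1

variable {A : Subgroup Γ} {r : ℕ}

theorem rho_comm (hA : OddAbelian σ A r) {a b : Γ} (ha : a ∈ A) (hb : b ∈ A) (y : M) :
    ρ a (ρ b y) = ρ b (ρ a y) := by
  rw [← MulAut.mul_apply, ← map_mul, hA.comm a ha b hb, map_mul, MulAut.mul_apply]

theorem prod_orbit_mem {K : Subgroup Γ} {W : Subgroup M} (hB : IsBlock ρ A K W) {a : Γ} (ha : a ∈ A)
    (n : ℕ) {y : M} (hy : y ∈ W) : ∏ j ∈ range n, ρ (a ^ j) y ∈ W :=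
  Subgroup.prod_mem _ fun _ _ => hB.invariant _ (A.pow_mem ha _) _ hy

/-- Pieces with different kernels are orthogonal. -/
theorem orth_aux (h : QuadData ρ σ q β) (hA : OddAbelian σ A r) {K K' : Subgroup Γ}
    {W W' : Subgroup M} (hB : IsBlock ρ A K W) (hB' : IsBlock ρ A K' W') {b : Γ} (hb : b ∈ K)
    (hb' : b ∉ K') {x y : M} (hx : x ∈ W) (hy : y ∈ W') : β x y = 1 := by
  have hbA := hB.le hb
  have hT : ∏ j ∈ range r, ρ (b ^ j) y = 1 :=
    hB'.fpf b hbA hb' _ (prod_orbit_mem hB' hbA r hy)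
      (map_prod_range ρ b r y (by rw [hA.pow_eq b hbA, map_one, MulAut.one_apply]))
  have hinv : ∀ j : ℕ, β x (ρ (b ^ j) y) = β x y := by
    intro j
    have h1 := h.beta_equiv (b ^ j) x y
    rw [hB.fixes _ (K.pow_mem hb j) x hx, hA.trivial _ (A.pow_mem hbA j), MulAut.one_apply] at h1
    exact h1
  have h2 := h.beta_prod x (fun j => ρ (b ^ j) y) r
  rw [hT, h.one_right, prod_congr rfl (fun j _ => hinv j), prod_const, card_range] at h2
  exact eq_one_of_odd_pow (h.sqV _) hA.odd h2.symm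

theorem orth (h : QuadData ρ σ q β) (hA : OddAbelian σ A r) {K K' : Subgroup Γ}
    {W W' : Subgroup M} (hB : IsBlock ρ A K W) (hB' : IsBlock ρ A K' W') (hne : K ≠ K')
    {x y : M} (hx : x ∈ W) (hy : y ∈ W') : β x y = 1 := by
  by_cases hle : K ≤ K'
  · obtain ⟨b, hb, hb'⟩ := SetLike.exists_of_lt (lt_of_le_of_ne hle hne)
    rw [h.symm]
    exact orth_aux h hA hB' hB hb hb' hy hx
  · obtain ⟨b, hb, hb'⟩ := SetLike.not_le_iff_exists.mp hle
    exact orth_aux h hA hB hB' hb hb' hx hy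

theorem IsBlock.conj {K : Subgroup Γ} {W : Subgroup M} (hB : IsBlock ρ A K W) {g : Γ}
    (hg : g ∈ Subgroup.normalizer (A : Set Γ)) :
    IsBlock ρ A (K.map (MulAut.conj g).toMonoidHom) (W.map (ρ g).toMonoidHom) := by
  have hback : ∀ a ∈ A, g⁻¹ * a * g ∈ A := fun a ha =>
    (Subgroup.mem_normalizer_iff''.mp hg a).mp ha
  have hact : ∀ a : Γ, ∀ y : M, ρ a (ρ g y) = ρ g (ρ (g⁻¹ * a * g) y) := by
    intro a y
    rw [← MulAut.mul_apply, ← MulAut.mul_apply, ← map_mul, ← map_mul]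
    congr 2
    group
  refine ⟨?_, ?_, ?_, ?_, ?_⟩
  · rintro _ ⟨k, hk, rfl⟩
    simpa using (Subgroup.mem_normalizer_iff.mp hg k).mp (hB.le hk)
  · intro e
    exact hB.ne_bot ((Subgroup.map_eq_bot_iff_of_injective W (ρ g).injective).mp e)
  · rintro a ha _ ⟨y, hy, rfl⟩
    exact ⟨_, hB.invariant _ (hback a ha) y hy, (hact a y).symm⟩
  · rintro _ ⟨k, hk, rfl⟩ _ ⟨y, hy, rfl⟩
    show ρ (g * k * g⁻¹) (ρ g y) = ρ g y
    rw [hact, show g⁻¹ * (g * k * g⁻¹) * g = k by group, hB.fixes k hk y hy]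
  · rintro a ha hna _ ⟨y, hy, rfl⟩ hfix
    have hfix' : ρ g (ρ (g⁻¹ * a * g) y) = ρ g y := by rw [← hact]; exact hfix
    have hy1 : y = 1 := hB.fpf _ (hback a ha)
      (fun hk => hna ⟨_, hk, by show g * (g⁻¹ * a * g) * g⁻¹ = a; group⟩) y hy ((ρ g).injective hfix')
    rw [hy1, map_one]

/-- Whatever acts trivially on the values fixes every kernel. -/
theorem map_conj_eq_of_trivial (h : QuadData ρ σ q β) (hA : OddAbelian σ A r) {K : Subgroup Γ}
    {W : Subgroup M} (hB : IsBlock ρ A K W) {g : Γ} (hg : g ∈ Subgroup.normalizer (A : Set Γ))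
    (hσ : σ g = 1) : K.map (MulAut.conj g).toMonoidHom = K := by
  by_contra hne
  obtain ⟨x, hxW, hx1⟩ := W.bot_or_exists_ne_one.resolve_left hB.ne_bot
  have hB' := hB.conj hg
  have hxW' : ρ g x ∈ W.map (ρ g).toMonoidHom := ⟨x, hxW, rfl⟩
  have hy : x * ρ g x = 1 := h.aniso _ (by
    rw [h.map_mul, orth h hA hB hB' (Ne.symm hne) hxW hxW', h.equiv, hσ, MulAut.one_apply, h.sqV,
      one_mul])
  have hgx : ρ g x = x := (mul_left_cancel ((h.sqM x).trans hy.symm)).symm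
  rw [hgx] at hxW'
  refine hne (Subgroup.eq_of_le_of_card_ge (fun k hk => ?_)
    (Subgroup.card_map_of_injective (MulAut.conj g).injective).ge)
  by_contra hkK
  exact hx1 (hB.fpf k (hB'.le hk) hkK x hxW (hB'.fixes k hk x hxW'))

theorem conj_map_map (K : Subgroup Γ) (g k : Γ) :
    (K.map (MulAut.conj g).toMonoidHom).map (MulAut.conj k).toMonoidHom =
      K.map (MulAut.conj (k * g)).toMonoidHom := by
  rw [Subgroup.map_map]
  congr 1
  ext x
  simp [mul_assoc]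

/-- An element of prime order modulo the kernel of `σ`, without fixed values, fixes every kernel. -/
theorem map_conj_eq_of_fpf (h : QuadData ρ σ q β) (hA : OddAbelian σ A r) {K : Subgroup Γ}
    {W : Subgroup M} (hB : IsBlock ρ A K W) {w : Γ} (hw : w ∈ Subgroup.normalizer (A : Set Γ))
    {s : ℕ} (hs : s.Prime) (hσ : σ (w ^ s) = 1) (hfpf : ∀ v, σ w v = v → v = 1) :
    K.map (MulAut.conj w).toMonoidHom = K := by
  by_contra hne
  let Kf : ℕ → Subgroup Γ := fun i => K.map (MulAut.conj (w ^ i)).toMonoidHom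
  have hstab : ∀ i, K.map (MulAut.conj (w ^ i)).toMonoidHom = K →
      w ^ i ∈ Subgroup.normalizer (K : Set Γ) := by
    intro i hi
    refine Subgroup.mem_normalizer_iff.mpr fun k => ?_
    have h1 : w ^ i * k * (w ^ i)⁻¹ = (MulAut.conj (w ^ i)).toMonoidHom k := rfl
    conv_rhs => rw [h1, ← hi]
    rw [Subgroup.mem_map_iff_mem (f := (MulAut.conj (w ^ i)).toMonoidHom) (MulAut.conj (w ^ i)).injective]
  have hdist : ∀ i j, i < j → j < s → Kf i ≠ Kf j := by
    intro i j hij hj heq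
    have h1 : K.map (MulAut.conj (w ^ (j - i))).toMonoidHom = K := by
      have h2 := congrArg (fun L : Subgroup Γ => L.map (MulAut.conj (w ^ i)⁻¹).toMonoidHom) heq
      simp only [Kf, conj_map_map, inv_mul_cancel] at h2
      rw [show (w ^ i)⁻¹ * w ^ j = w ^ (j - i) by
        rw [inv_mul_eq_iff_eq_mul, ← pow_add, Nat.add_sub_cancel' hij.le]] at h2
      rw [← h2]
      ext x
      simp
    have h2 := hstab _ h1
    have h3 := hstab _ (map_conj_eq_of_trivial h hA hB (Subgroup.pow_mem _ hw s) hσ)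
    have hcop : Nat.Coprime (j - i) s :=
      (Nat.coprime_of_lt_prime (by omega) (by omega) hs).symm
    have hwN : w ∈ Subgroup.normalizer (K : Set Γ) := by
      have e : w = (w ^ (j - i)) ^ (Nat.gcdA (j - i) s) * (w ^ s) ^ (Nat.gcdB (j - i) s) := by
        rw [← zpow_natCast w (j - i), ← zpow_natCast w s, ← zpow_mul, ← zpow_mul, ← zpow_add,
          ← Nat.gcd_eq_gcd_ab, hcop.gcd_eq_one]
        simp
      rw [e]
      exact Subgroup.mul_mem _ (Subgroup.zpow_mem _ h2 _) (Subgroup.zpow_mem _ h3 _)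
    refine hne (Subgroup.eq_of_le_of_card_ge ?_
      (Subgroup.card_map_of_injective (MulAut.conj w).injective).ge)
    rintro _ ⟨k, hk, rfl⟩
    simpa using (Subgroup.mem_normalizer_iff.mp hwN k).mp hk
  obtain ⟨x, hxW, hx1⟩ := W.bot_or_exists_ne_one.resolve_left hB.ne_bot
  have hBi : ∀ i, IsBlock ρ A (Kf i) (W.map (ρ (w ^ i)).toMonoidHom) := fun i =>
    hB.conj (Subgroup.pow_mem _ hw i)
  have hmem : ∀ i, ρ (w ^ i) x ∈ W.map (ρ (w ^ i)).toMonoidHom := fun i => ⟨x, hxW, rfl⟩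
  have hq := h.map_prod (fun i => ρ (w ^ i) x) s fun i j hij hj =>
    orth h hA (hBi i) (hBi j) (hdist i j hij hj) (hmem i) (hmem j)
  simp only [h.equiv] at hq
  have hy : ∏ i ∈ range s, ρ (w ^ i) x = 1 := h.aniso _ <| hfpf _ <| by
    rw [hq]
    exact map_prod_range σ w s _ (by rw [hσ, MulAut.one_apply])
  -- project to the first piece
  haveI := Fintype.ofFinite K
  let e : M →* M := ∏ k : K, (ρ (k : Γ)).toMonoidHom
  have he : ∀ z, e z = ∏ k : K, ρ (k : Γ) z := fun z => MonoidHom.finsetProd_apply _ _ _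
  have hodd : Odd (Fintype.card K) := by
    rw [← Nat.card_eq_fintype_card]
    rcases Nat.even_or_odd (Nat.card K) with he | ho
    · exfalso
      haveI : Fact (Nat.Prime 2) := ⟨Nat.prime_two⟩
      obtain ⟨k, hk⟩ := exists_prime_orderOf_dvd_card' 2 (even_iff_two_dvd.mp he)
      have h1 : orderOf k ∣ r := orderOf_dvd_of_pow_eq_one (Subtype.ext (by
        rw [Subgroup.coe_pow, Subgroup.coe_one, hA.pow_eq _ (hB.le k.2)]))
      rw [hk] at h1
      exact (Nat.not_even_iff_odd.mpr hA.odd) (even_iff_two_dvd.mpr h1)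
    · exact ho
  have h0 : e (ρ (w ^ 0) x) = x := by
    rw [he, pow_zero, map_one, MulAut.one_apply,
      Finset.prod_congr rfl (fun k _ => hB.fixes _ k.2 x hxW), Finset.prod_const, Finset.card_univ]
    obtain ⟨k, hk⟩ := hodd
    rw [hk, pow_succ, pow_mul, pow_two, h.sqM, one_pow, one_mul]
  have hi : ∀ i, 0 < i → i < s → e (ρ (w ^ i) x) = 1 := by
    intro i hi0 his
    have hKne : K ≠ Kf i := by
      intro hK
      refine hdist 0 i hi0 his (Eq.trans ?_ hK)
      show K.map (MulAut.conj (w ^ 0)).toMonoidHom = K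
      ext y
      simp
    have hnle : ¬ K ≤ Kf i := fun hle => hKne (Subgroup.eq_of_le_of_card_ge hle
      (Subgroup.card_map_of_injective (MulAut.conj (w ^ i)).injective).le)
    obtain ⟨b, hb, hb'⟩ := SetLike.not_le_iff_exists.mp hnle
    rw [he]
    refine (hBi i).fpf b (hB.le hb) hb' _
      (Subgroup.prod_mem _ fun k _ => (hBi i).invariant _ (hB.le k.2) _ (hmem i)) ?_
    rw [map_prod]
    exact Fintype.prod_equiv (Equiv.mulLeft (⟨b, hb⟩ : K)) _ _ fun k => by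
      simp [MulAut.mul_apply]
  have h1 := congrArg e hy
  rw [map_prod, map_one] at h1
  rw [prod_eq_single_of_mem 0 (mem_range.mpr hs.pos)
    (fun i hi' hne0 => hi i (Nat.pos_of_ne_zero hne0) (mem_range.mp hi')), h0] at h1
  exact hx1 h1

/-- `A / K` is cyclic. -/
theorem exists_pow_mul_mem (h : QuadData ρ σ q β) (hA : OddAbelian σ A r) {K : Subgroup Γ}
    {W : Subgroup M} (hB : IsBlock ρ A K W) {a b : Γ} (ha : a ∈ A) (haK : a ∉ K) (hb : b ∈ A) :
    ∃ i : ℕ, a ^ i * b ∈ K := by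
  by_contra hn
  push Not at hn
  obtain ⟨x, hxW, hx1⟩ := W.bot_or_exists_ne_one.resolve_left hB.ne_bot
  have hker : ∀ u ∈ A, u ∉ K → ∀ y ∈ W, ∏ j ∈ range r, ρ (u ^ j) y = 1 := fun u hu huK y hy =>
    hB.fpf u hu huK _ (prod_orbit_mem hB hu r hy)
      (map_prod_range ρ u r y (by rw [hA.pow_eq u hu, map_one, MulAut.one_apply]))
  have h1 : ∏ i ∈ range r, ∏ j ∈ range r, ρ ((a ^ i * b) ^ j) x = 1 :=
    prod_eq_one fun i _ => hker _ (A.mul_mem (A.pow_mem ha i) hb) (hn i) x hxW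
  rw [prod_comm] at h1
  have hsplit : ∀ i j : ℕ, ρ ((a ^ i * b) ^ j) x = ρ ((a ^ j) ^ i) (ρ (b ^ j) x) := by
    intro i j
    rw [(show Commute (a ^ i) b from hA.comm _ (A.pow_mem ha i) _ hb).mul_pow, map_mul,
      MulAut.mul_apply, ← pow_mul, ← pow_mul, mul_comm]
  have hzero : ∀ j ∈ range r, j ≠ 0 → ∏ i ∈ range r, ρ ((a ^ i * b) ^ j) x = 1 := by
    intro j hj hj0
    simp only [hsplit]
    refine hker _ (A.pow_mem ha j) (fun hjK => haK ?_) _ (hB.invariant _ (A.pow_mem hb j) _ hxW)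
    have hcop : Nat.Coprime j r := (Nat.coprime_of_lt_prime hj0 (mem_range.mp hj) hA.prime).symm
    have e : a = (a ^ j) ^ (Nat.gcdA j r) * (a ^ r) ^ (Nat.gcdB j r) := by
      rw [← zpow_natCast a j, ← zpow_natCast a r, ← zpow_mul, ← zpow_mul, ← zpow_add,
        ← Nat.gcd_eq_gcd_ab, hcop.gcd_eq_one]
      simp
    rw [e, hA.pow_eq a ha, one_zpow, mul_one]
    exact K.zpow_mem hjK _
  rw [prod_eq_single_of_mem 0 (mem_range.mpr hA.prime.pos) hzero] at h1
  simp only [pow_zero, map_one, MulAut.one_apply, prod_const, card_range] at h1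
  exact hx1 (eq_one_of_odd_pow (h.sqM x) hA.odd h1)

theorem exists_mem_pow (h : QuadData ρ σ q β) (hA : OddAbelian σ A r) {K : Subgroup Γ}
    {W : Subgroup M} (hB : IsBlock ρ A K W) {a b : Γ} (ha : a ∈ A) (haK : a ∉ K) (hb : b ∈ A) :
    ∃ c : ℕ, b * (a ^ c)⁻¹ ∈ K := by
  obtain ⟨c, hc⟩ := exists_pow_mul_mem h hA hB ha haK (A.inv_mem hb)
  refine ⟨c, ?_⟩
  rw [← inv_inv b, ← mul_inv_rev]
  exact K.inv_mem hc

/-- An element fixing `K` acts on `A / K` as a power map. -/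
theorem exists_exponent (h : QuadData ρ σ q β) (hA : OddAbelian σ A r) {K : Subgroup Γ}
    {W : Subgroup M} (hB : IsBlock ρ A K W) {g : Γ} (hg : g ∈ Subgroup.normalizer (A : Set Γ))
    (hgK : K.map (MulAut.conj g).toMonoidHom = K) :
    ∃ c : ℕ, ∀ b ∈ A, g * b * g⁻¹ * (b ^ c)⁻¹ ∈ K := by
  by_cases htop : A ≤ K
  · exact ⟨1, fun b hb => htop (A.mul_mem ((Subgroup.mem_normalizer_iff.mp hg b).mp hb)
      (A.inv_mem (A.pow_mem hb 1)))⟩
  obtain ⟨a, ha, haK⟩ := SetLike.not_le_iff_exists.mp htop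
  have hg' : ∀ b ∈ A, g * b * g⁻¹ ∈ A := fun b hb => (Subgroup.mem_normalizer_iff.mp hg b).mp hb
  obtain ⟨c, hc⟩ := exists_mem_pow h hA hB ha haK (hg' a ha)
  refine ⟨c, fun b hb => ?_⟩
  obtain ⟨i, hi⟩ := exists_mem_pow h hA hB ha haK hb
  have hk' : g * (b * (a ^ i)⁻¹) * g⁻¹ ∈ K := hgK ▸ ⟨_, hi, by simp⟩
  have e : g * b * g⁻¹ * (b ^ c)⁻¹ = g * (b * (a ^ i)⁻¹) * g⁻¹ *
      (g * a * g⁻¹ * (a ^ c)⁻¹) ^ i * ((b * (a ^ i)⁻¹) ^ c)⁻¹ := by
    rw [(show Commute (g * a * g⁻¹) (a ^ c)⁻¹ from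
          hA.comm _ (hg' a ha) _ (A.inv_mem (A.pow_mem ha c))).mul_pow,
      (show Commute b (a ^ i)⁻¹ from hA.comm _ hb _ (A.inv_mem (A.pow_mem ha i))).mul_pow,
      conj_pow, inv_pow, inv_pow, ← pow_mul, ← pow_mul, mul_comm c i, mul_inv_rev, inv_inv]
    group
  rw [e]
  exact K.mul_mem (K.mul_mem hk' (K.pow_mem hc i)) (K.inv_mem (K.pow_mem hi c))

/-- An element fixing `K` acting trivially modulo its order acts trivially on `A / K`. -/
theorem conj_mem_of_pow (h : QuadData ρ σ q β) (hA : OddAbelian σ A r) {K : Subgroup Γ}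
    {W : Subgroup M} (hB : IsBlock ρ A K W) {g : Γ} (hg : g ∈ Subgroup.normalizer (A : Set Γ))
    (hgK : K.map (MulAut.conj g).toMonoidHom = K) {k : ℕ} (hk : g ^ r ^ k = 1) :
    ∀ b ∈ A, g * b * g⁻¹ * b⁻¹ ∈ K := by
  haveI : Fact r.Prime := ⟨hA.prime⟩
  intro b hb
  by_cases hbK : b ∈ K
  · exact K.mul_mem (hgK ▸ ⟨b, hbK, by simp⟩) (K.inv_mem hbK)
  obtain ⟨c, hc⟩ := exists_exponent h hA hB hg hgK
  have hg' : ∀ b ∈ A, g * b * g⁻¹ ∈ A := fun b hb => (Subgroup.mem_normalizer_iff.mp hg b).mp hb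
  have hn : ∀ n : ℕ, g ^ n * b * (g ^ n)⁻¹ * (b ^ (c ^ n))⁻¹ ∈ K := by
    intro n
    induction n with
    | zero => simp
    | succ n ih =>
      have h1 : g * (g ^ n * b * (g ^ n)⁻¹ * (b ^ c ^ n)⁻¹) * g⁻¹ ∈ K := hgK ▸ ⟨_, ih, by simp⟩
      have e : g ^ (n + 1) * b * (g ^ (n + 1))⁻¹ * (b ^ c ^ (n + 1))⁻¹ =
          g * (g ^ n * b * (g ^ n)⁻¹ * (b ^ c ^ n)⁻¹) * g⁻¹ *
            (g * b * g⁻¹ * (b ^ c)⁻¹) ^ (c ^ n) := by
        rw [(show Commute (g * b * g⁻¹) (b ^ c)⁻¹ from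
          hA.comm _ (hg' b hb) _ (A.inv_mem (A.pow_mem hb c))).mul_pow, conj_pow, inv_pow,
          ← pow_mul, ← pow_succ' c, pow_succ' g]
        group
      rw [e]
      exact K.mul_mem h1 (K.pow_mem (hc b hb) _)
  have h1 := hn (r ^ k)
  rw [hk, one_mul, inv_one, mul_one] at h1
  -- compare the exponents modulo `r`
  let S : Subgroup (Multiplicative ℤ) := K.comap (zpowersHom Γ b)
  have hmem : ∀ m : ℕ, b ^ m ∈ K ↔ r ∣ m := by
    intro m
    constructor
    · intro hm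
      by_contra hdv
      have hcop : Nat.Coprime r m := hA.prime.coprime_iff_not_dvd.mpr hdv
      have e : b = (b ^ r) ^ (Nat.gcdA r m) * (b ^ m) ^ (Nat.gcdB r m) := by
        rw [← zpow_natCast b r, ← zpow_natCast b m, ← zpow_mul, ← zpow_mul, ← zpow_add,
          ← Nat.gcd_eq_gcd_ab, hcop.gcd_eq_one]
        simp
      refine hbK ?_
      rw [e, hA.pow_eq b hb, one_zpow, one_mul]
      exact K.zpow_mem hm _
    · rintro ⟨d, rfl⟩
      rw [pow_mul, hA.pow_eq b hb, one_pow]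
      exact K.one_mem
  have hmod : ∀ m n : ℕ, b ^ m * (b ^ n)⁻¹ ∈ K → (m : ZMod r) = n := by
    intro m n hmn
    have e : b ^ (m + (r - 1) * n) = b ^ m * (b ^ n)⁻¹ := by
      rw [eq_mul_inv_iff_mul_eq, ← pow_add, add_assoc, ← Nat.succ_mul,
        Nat.succ_eq_add_one, Nat.sub_add_cancel hA.prime.one_le, pow_add, pow_mul,
        hA.pow_eq b hb, one_pow, mul_one]
    have h2 := (ZMod.natCast_eq_zero_iff _ r).mpr ((hmem _).mp (e ▸ hmn))
    push_cast [Nat.cast_sub hA.prime.one_le] at h2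
    rw [ZMod.natCast_self] at h2
    linear_combination h2
  have h2 := hmod 1 (c ^ r ^ k) (by rw [pow_one]; exact h1)
  have h3 : (c : ZMod r) = (1 : ℕ) := by
    rw [h2, Nat.cast_pow]
    have : ∀ k, (c : ZMod r) ^ r ^ k = c := by
      intro k
      induction k with
      | zero => simp
      | succ k ih => rw [pow_succ, pow_mul, ih, ZMod.pow_card]
    exact (this k).symm
  have h4 : b ^ c * b⁻¹ ∈ K := by
    have e : b ^ (c + (r - 1)) = b ^ c * b⁻¹ := by
      rw [eq_mul_inv_iff_mul_eq, ← pow_succ, add_assoc, Nat.sub_add_cancel hA.prime.one_le,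
        pow_add, hA.pow_eq b hb, mul_one]
    rw [← e, hmem, ← ZMod.natCast_eq_zero_iff]
    push_cast [Nat.cast_sub hA.prime.one_le]
    rw [ZMod.natCast_self, h3]
    simp
  have e : g * b * g⁻¹ * b⁻¹ = g * b * g⁻¹ * (b ^ c)⁻¹ * (b ^ c * b⁻¹) := by group
  rw [e]
  exact K.mul_mem (hc b hb) h4

/-- An element of `A` in all kernels acts trivially. -/
theorem rho_eq_one_of_mem_all (h : QuadData ρ σ q β) (hA : OddAbelian σ A r) {a : Γ} (ha : a ∈ A)
    (hall : ∀ (K : Subgroup Γ) (W : Subgroup M), IsBlock ρ A K W → a ∈ K) : ρ a = 1 := by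
  by_contra hne
  obtain ⟨x, hx⟩ : ∃ x, ρ a x ≠ x := by
    by_contra hx
    push Not at hx
    exact hne (MulEquiv.ext hx)
  let D : Subgroup M :=
    (∏ j ∈ range r, (ρ (a ^ j)).toMonoidHom : M →* M).ker
  have hD : ∀ y, y ∈ D ↔ ∏ j ∈ range r, ρ (a ^ j) y = 1 := fun y => by
    show (∏ j ∈ range r, (ρ (a ^ j)).toMonoidHom : M →* M) y = 1 ↔ _
    rw [MonoidHom.finsetProd_apply]
    rfl
  have hDinv : ∀ b ∈ A, ∀ y ∈ D, ρ b y ∈ D := by
    intro b hb y hy
    rw [hD] at hy ⊢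
    simp only [rho_comm hA (A.pow_mem ha _) hb, ← map_prod, hy, map_one]
  have hx0 : x * ρ a x ∈ D := by
    rw [hD]
    simp only [map_mul, prod_mul_distrib]
    have h1 : ∏ j ∈ range r, ρ (a ^ j) (ρ a x) = ρ a (∏ j ∈ range r, ρ (a ^ j) x) := by
      rw [map_prod]
      exact prod_congr rfl fun j _ => rho_comm hA (A.pow_mem ha j) ha x
    rw [h1, map_prod_range ρ a r x (by rw [hA.pow_eq a ha, map_one, MulAut.one_apply]), h.sqM]
  have hx01 : x * ρ a x ≠ 1 := fun e => hx (mul_left_cancel ((h.sqM x).trans e.symm)).symm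
  let stab : M → Subgroup Γ := fun y =>
    { carrier := {g | g ∈ A ∧ ρ g y = y}
      one_mem' := ⟨A.one_mem, by rw [map_one, MulAut.one_apply]⟩
      mul_mem' := fun {u v} hu hv => ⟨A.mul_mem hu.1 hv.1, by
        rw [map_mul, MulAut.mul_apply, hv.2, hu.2]⟩
      inv_mem' := fun {u} hu => ⟨A.inv_mem hu.1, by
        conv_lhs => rw [← hu.2]
        rw [← MulAut.mul_apply, ← map_mul, inv_mul_cancel, map_one, MulAut.one_apply]⟩ }
  obtain ⟨y, ⟨hyD, hy1⟩, hmax⟩ := (Set.toFinite {y : M | y ∈ D ∧ y ≠ 1}).exists_maximalFor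
    (fun y => Nat.card (stab y)) _ ⟨_, hx0, hx01⟩
  let W : Subgroup M :=
    { carrier := {z | z ∈ D ∧ ∀ k ∈ stab y, ρ k z = z}
      one_mem' := ⟨D.one_mem, fun k _ => map_one _⟩
      mul_mem' := fun {u v} hu hv => ⟨D.mul_mem hu.1 hv.1, fun k hk => by
        rw [map_mul, hu.2 k hk, hv.2 k hk]⟩
      inv_mem' := fun {u} hu => ⟨D.inv_mem hu.1, fun k hk => by rw [map_inv, hu.2 k hk]⟩ }
  have hB : IsBlock ρ A (stab y) W := by
    refine ⟨fun k hk => hk.1, fun e => hy1 ?_, fun b hb z hz => ⟨hDinv b hb z hz.1, fun k hk => ?_⟩,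
      fun k hk z hz => hz.2 k hk, fun b hb hbK z hz hfix => ?_⟩
    · have : y ∈ W := ⟨hyD, fun k hk => hk.2⟩
      rwa [e, Subgroup.mem_bot] at this
    · rw [rho_comm hA hk.1 hb, hz.2 k hk]
    · by_contra hz1
      have hle : stab y ≤ stab z := fun k hk => ⟨hk.1, hz.2 k hk⟩
      have := hmax ⟨hz.1, hz1⟩ (Subgroup.card_le_of_le hle)
      exact hbK ((Subgroup.eq_of_le_of_card_ge hle this) ▸ ⟨hb, hfix⟩)
  have hfa : ∀ j : ℕ, ρ (a ^ j) y = y := fun j =>
    ((stab y).pow_mem (hall _ _ hB) j).2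
  rw [hD, prod_congr rfl (fun j _ => hfa j), prod_const, card_range] at hyD
  exact hy1 (eq_one_of_odd_pow (h.sqM y) hA.odd hyD)

/-- An element of `r`-power order acting trivially on the values centralises `A`. -/
theorem commute_of_pow (h : QuadData ρ σ q β) (hA : OddAbelian σ A r)
    (hfaith : ∀ a ∈ A, ρ a = 1 → a = 1) {g : Γ} (hg : g ∈ Subgroup.normalizer (A : Set Γ))
    (hσ : σ g = 1) {k : ℕ} (hk : g ^ r ^ k = 1) : ∀ b ∈ A, g * b = b * g := by
  intro b hb
  have h1 : g * b * g⁻¹ * b⁻¹ = 1 :=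
    hfaith _ (A.mul_mem ((Subgroup.mem_normalizer_iff.mp hg b).mp hb) (A.inv_mem hb))
      (rho_eq_one_of_mem_all h hA
        (A.mul_mem ((Subgroup.mem_normalizer_iff.mp hg b).mp hb) (A.inv_mem hb))
        fun K W hB => conj_mem_of_pow h hA hB hg (map_conj_eq_of_trivial h hA hB hg hσ) hk b hb)
  exact mul_inv_eq_iff_eq_mul.mp (mul_inv_eq_one.mp h1)

/-- Commutators with an element without fixed values centralise `A`. -/
theorem commute_of_commutator (h : QuadData ρ σ q β) (hA : OddAbelian σ A r)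
    (hfaith : ∀ a ∈ A, ρ a = 1 → a = 1) {t w : Γ} (ht : t ∈ Subgroup.normalizer (A : Set Γ))
    (hσt : σ t = 1) (hw : w ∈ Subgroup.normalizer (A : Set Γ)) {s : ℕ} (hs : s.Prime)
    (hσw : σ (w ^ s) = 1) (hfpf : ∀ v, σ w v = v → v = 1) :
    ∀ b ∈ A, t⁻¹ * w * t * w⁻¹ * b = b * (t⁻¹ * w * t * w⁻¹) := by
  intro b hb
  set g := t⁻¹ * w * t * w⁻¹ with hgdef
  have hg : g ∈ Subgroup.normalizer (A : Set Γ) :=
    Subgroup.mul_mem _ (Subgroup.mul_mem _ (Subgroup.mul_mem _ (Subgroup.inv_mem _ ht) hw) ht)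
      (Subgroup.inv_mem _ hw)
  have hgb := (Subgroup.mem_normalizer_iff.mp hg b).mp hb
  have h1 : g * b * g⁻¹ * b⁻¹ = 1 := by
    refine hfaith _ (A.mul_mem hgb (A.inv_mem hb))
      (rho_eq_one_of_mem_all h hA (A.mul_mem hgb (A.inv_mem hb)) fun K W hB => ?_)
    have htK := map_conj_eq_of_trivial h hA hB ht hσt
    have hwK := map_conj_eq_of_fpf h hA hB hw hs hσw hfpf
    obtain ⟨c, hc⟩ := exists_exponent h hA hB ht htK
    obtain ⟨d, hd⟩ := exists_exponent h hA hB hw hwK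
    set b' := w⁻¹ * b * w with hb'def
    have hb' : b' ∈ A := (Subgroup.mem_normalizer_iff''.mp hw b).mp hb
    have hN : ∀ {u : Γ}, u ∈ Subgroup.normalizer (A : Set Γ) → ∀ x ∈ A, u * x * u⁻¹ ∈ A :=
      fun hu x hx => (Subgroup.mem_normalizer_iff.mp hu x).mp hx
    have hmap : ∀ {u : Γ}, K.map (MulAut.conj u).toMonoidHom = K → ∀ x ∈ K, u * x * u⁻¹ ∈ K :=
      fun hu x hx => hu ▸ ⟨x, hx, by simp⟩
    -- both orders agree with the `c * d`-th power modulo `K`
    have key : ∀ {u v : Γ} {c d : ℕ}, u ∈ Subgroup.normalizer (A : Set Γ) →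
        v ∈ Subgroup.normalizer (A : Set Γ) → K.map (MulAut.conj u).toMonoidHom = K →
        (∀ x ∈ A, u * x * u⁻¹ * (x ^ c)⁻¹ ∈ K) → (∀ x ∈ A, v * x * v⁻¹ * (x ^ d)⁻¹ ∈ K) →
        ∀ x ∈ A, u * v * x * (u * v)⁻¹ * (x ^ (c * d))⁻¹ ∈ K := by
      intro u v c d hu hv huK hcu hdv x hx
      have e : u * v * x * (u * v)⁻¹ * (x ^ (c * d))⁻¹ = u * (v * x * v⁻¹ * (x ^ d)⁻¹) * u⁻¹ *
          (u * x ^ d * u⁻¹ * ((x ^ d) ^ c)⁻¹) := by
        rw [← pow_mul, mul_comm c d]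
        group
      rw [e]
      exact K.mul_mem (hmap huK _ (hdv x hx)) (hcu _ (A.pow_mem hx d))
    have h2 := key hw ht hwK hd hc b' hb'
    have h3 := key ht hw htK hc hd b' hb'
    rw [mul_comm d c] at h2
    have h4 := K.mul_mem h2 (K.inv_mem h3)
    rw [mul_inv_rev (t * w * b' * (t * w)⁻¹), inv_inv, mul_assoc (w * t * b' * (w * t)⁻¹),
      inv_mul_cancel_left] at h4
    have h5 : t⁻¹ * (w * t * b' * (w * t)⁻¹ * (t * w * b' * (t * w)⁻¹)⁻¹) * t⁻¹⁻¹ ∈ K :=
      (Subgroup.mem_map_iff_mem (f := (MulAut.conj t).toMonoidHom) (MulAut.conj t).injective).mp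
        (by rw [htK]; simpa [mul_assoc] using h4)
    convert h5 using 1
    rw [hgdef, hb'def]
    group
  exact mul_inv_eq_iff_eq_mul.mp (mul_inv_eq_one.mp h1)

end CfsgLib.TwoLength
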