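import Mathlib
import Cfsg.Agent.Lib.TwoLength.Blocks
import Cfsg.Agent.Lib.PSolvable.Core
import Cfsg.Agent.Lib.OddOmega.Basic
import Cfsg.Agent.Lib.Critical.Basic

/-!
Thompson: a soluble group with trivial odd core and one class of at least two involutions has a
normal Sylow `2`-subgroup.
-/

set_option autoImplicit false
set_option linter.unusedSectionVars false
set_option linter.style.haveILetI false

namespace CfsgLib.TwoLength

open scoped Pointwise

variable {G : Type*} [Group G] [Finite G]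

theorem pow_eq_one_of_pow_mem {Q : Subgroup G} (hQ : IsPGroup 2 Q) {x : G} {n : ℕ}
    (h : x ^ 2 ^ n ∈ Q) : ∃ m, x ^ 2 ^ m = 1 := by
  obtain ⟨m, hm⟩ := hQ ⟨_, h⟩
  exact ⟨n + m, by rw [pow_add, pow_mul]; simpa using congrArg Subtype.val hm⟩

theorem exists_involution {H : Subgroup G} {x : G} (hx : x ∈ H) (hx1 : x ≠ 1) {n : ℕ}
    (h : x ^ 2 ^ n = 1) : ∃ i ∈ H, i ≠ 1 ∧ i ^ 2 = 1 := by
  induction n generalizing x with
  | zero => rw [pow_zero, pow_one] at h; exact absurd h hx1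
  | succ n ih =>
    by_cases h2 : x ^ 2 = 1
    · exact ⟨x, hx, hx1, h2⟩
    · exact ih (H.pow_mem hx 2) h2 (by rw [← pow_mul, ← pow_succ', h])

theorem eq_one_of_two_pow_of_odd {M : Type*} [Monoid M] {x : M} {m n : ℕ} (h : x ^ 2 ^ m = 1)
    (hn : Odd n) (h' : x ^ n = 1) : x = 1 :=
  orderOf_eq_one_iff.mp (Nat.eq_one_of_dvd_coprimes
    ((Nat.coprime_two_left.mpr hn).pow_left m)
    (orderOf_dvd_of_pow_eq_one h) (orderOf_dvd_of_pow_eq_one h'))

/-- A coprime normal section has a complement whose normalizer supplements `Q`. -/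
theorem exists_complement_frattini {Q : Subgroup G} [Q.Normal] (hQ : IsPGroup 2 Q) (K : Subgroup G)
    [K.Normal] (hQK : Q ≤ K) (hcop : (Q.relIndex K).Coprime 2) :
    ∃ R ≤ K, Q ⊔ R = K ∧ Q ⊓ R = ⊥ ∧ (Nat.card R).Coprime 2 ∧
      ∀ g : G, ∃ x ∈ Q, ∃ n ∈ Subgroup.normalizer (R : Set G), g = x * n := by
  have hcop' : (Nat.card Q).Coprime (Q.relIndex K) := by
    obtain ⟨k, hk⟩ := IsPGroup.iff_card.mp hQ
    rw [hk]
    exact hcop.symm.pow_left k
  obtain ⟨R, hRK, hsup, hinf, hRcard⟩ := CfsgLib.Coprime.exists_complement_of_coprime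
    (N := Q) (S := K) (le_top.trans (Subgroup.normalizer_eq_top _).ge) (by rw [inf_eq_left.mpr hQK]; exact hcop')
  rw [inf_eq_left.mpr hQK] at hsup hinf
  refine ⟨R, hRK, hsup, hinf, hRcard ▸ hcop, fun g => ?_⟩
  have hgR : MulAut.conj g • R ≤ K := by
    intro y hy
    rw [Subgroup.mem_pointwise_smul_iff_inv_smul_mem] at hy
    have h1 := (inferInstance : K.Normal).conj_mem _ (hRK hy) g
    simpa [MulAut.smul_def, mul_assoc] using h1
  have hcard' : Nat.card (MulAut.conj g • R : Subgroup G) = Nat.card R :=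
    CfsgLib.Coprime.card_conj_smul g R
  have hsup' : Q ⊔ (MulAut.conj g • R) = K := by
    have : MulAut.conj g • (Q ⊔ R) = Q ⊔ MulAut.conj g • R := by
      rw [Subgroup.smul_sup, Subgroup.Normal.conj_smul_eq_self g Q]
    rw [← this, hsup, Subgroup.Normal.conj_smul_eq_self g K]
  haveI : Group.IsNilpotent Q := hQ.isNilpotent
  obtain ⟨x, hx, hxR⟩ := CfsgLib.Coprime.exists_conj_of_coprime (N := Q) (H := R)
    (K := MulAut.conj g • R) (le_top.trans (Subgroup.normalizer_eq_top _).ge)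
    (hRcard ▸ hcop') (hcard'.symm ▸ hRcard ▸ hcop') (hsup.trans hsup'.symm) (Or.inl inferInstance)
  refine ⟨x, hx, x⁻¹ * g, ?_, by group⟩
  rw [CfsgLib.Coprime.mem_normalizer_iff_conj_smul, map_mul, mul_smul, ← hxR, map_inv, inv_smul_smul]

/-- An odd section without fixed involutions forces the Sylow `2`-subgroup to be normal. -/
theorem not_dvd_index_of_fpf {Q V : Subgroup G} [Q.Normal] (hQ : IsPGroup 2 Q)
    (hV : ∀ x, x ∈ V ↔ x ^ 2 = 1) (hVQ : V ≤ Q) (hVc : ∀ v ∈ V, ∀ y ∈ Q, y * v = v * y)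
    (K : Subgroup G) [K.Normal] (hQK : Q ≤ K) (hcop : (Q.relIndex K).Coprime 2)
    (hfix : ∀ v ∈ V, (∀ k ∈ K, k * v = v * k) → v = 1) : ¬ 2 ∣ Q.index := by
  intro hidx
  obtain ⟨R, -, hsup, hinf, -, hfrat⟩ := exists_complement_frattini hQ K hQK hcop
  set N : Subgroup G := Subgroup.normalizer (R : Set G)
  have hQN : ∀ q ∈ Q, q ∈ N → q ∈ Subgroup.centralizer (R : Set G) := fun q hq hqN =>
    CfsgLib.Coprime.commute_of_mem_normalizer (le_top.trans (Subgroup.normalizer_eq_top Q).ge) hinf hq hqN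
  have hQNbot : ∀ q ∈ Q, q ∈ N → q = 1 := by
    intro q hq hqN
    by_contra hq1
    obtain ⟨m, hm⟩ := hQ ⟨q, hq⟩
    have hm' : q ^ 2 ^ m = 1 := by simpa using congrArg Subtype.val hm
    obtain ⟨i, hi, hi1, hi2⟩ := exists_involution (H := Q ⊓ N) ⟨hq, hqN⟩ hq1 hm'
    refine hi1 (hfix i ((hV i).mpr hi2) fun k hk => ?_)
    rw [← hsup] at hk
    obtain ⟨x, hx, r, hr, rfl⟩ := Subgroup.mem_sup_of_normal_left.mp hk
    have h1 : r * i = i * r := Subgroup.mem_centralizer_iff.mp (hQN i hi.1 hi.2) r hr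
    rw [mul_assoc, h1, ← mul_assoc, hVc i ((hV i).mpr hi2) x hx, mul_assoc]
  have hsurj : Function.Surjective ((QuotientGroup.mk' Q).comp N.subtype) := by
    intro q
    obtain ⟨g, rfl⟩ := QuotientGroup.mk_surjective q
    obtain ⟨x, hx, n, hn, rfl⟩ := hfrat g
    refine ⟨⟨n, hn⟩, ?_⟩
    show ((n : G) : G ⧸ Q) = _
    rw [QuotientGroup.mk_mul, (QuotientGroup.eq_one_iff x).mpr hx, one_mul]
  haveI : Fact (Nat.Prime 2) := ⟨Nat.prime_two⟩
  obtain ⟨n, hn⟩ := exists_prime_orderOf_dvd_card' 2 (hidx.trans (Subgroup.card_dvd_of_surjective _ hsurj))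
  have hn2 : (n : G) ^ 2 = 1 := by rw [← Subgroup.coe_pow, ← hn, pow_orderOf_eq_one]; rfl
  have := hQNbot _ (hVQ ((hV _).mpr hn2)) n.2
  rw [OneMemClass.coe_eq_one] at this
  rw [this, orderOf_one] at hn
  omega

/-- An abelian normal section of prime exponent of a transitive group acts semiregularly. -/
theorem semiregular {Γ V : Type*} [Group Γ] [Finite Γ] [CommGroup V] [Finite V]
    (σ : Γ →* MulAut V) (hV2 : ∀ v : V, v * v = 1)
    (htrans : ∀ u v : V, u ≠ 1 → v ≠ 1 → ∃ g, σ g u = v) (K : Subgroup Γ) [K.Normal]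
    (hKc : ∀ k ∈ K, ∀ l ∈ K, ∀ v, σ k (σ l v) = σ l (σ k v)) {r : ℕ} (hr : r.Prime)
    (hKr : ∀ k ∈ K, σ (k ^ r) = 1) (hne : ∃ k ∈ K, σ k ≠ 1) :
    Odd r ∧ ∀ k ∈ K, σ k ≠ 1 → ∀ v, σ k v = v → v = 1 := by
  let st : V → Subgroup Γ := fun v =>
    { carrier := {g | g ∈ K ∧ σ g v = v}
      one_mem' := ⟨K.one_mem, by rw [map_one, MulAut.one_apply]⟩
      mul_mem' := fun {u w} hu hw => ⟨K.mul_mem hu.1 hw.1, by
        rw [map_mul, MulAut.mul_apply, hw.2, hu.2]⟩
      inv_mem' := fun {u} hu => ⟨K.inv_mem hu.1, by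
        conv_lhs => rw [← hu.2]
        rw [← MulAut.mul_apply, ← map_mul, inv_mul_cancel, map_one, MulAut.one_apply]⟩ }
  have hcard : ∀ u v, u ≠ 1 → v ≠ 1 → Nat.card (st u) ≤ Nat.card (st v) := by
    intro u v hu hv
    obtain ⟨g, hg⟩ := htrans u v hu hv
    refine le_of_eq_of_le (Subgroup.card_map_of_injective (f := (MulAut.conj g).toMonoidHom)
      (MulAut.conj g).injective).symm (Subgroup.card_le_of_le ?_)
    rintro _ ⟨k, hk, rfl⟩
    refine ⟨(inferInstance : K.Normal).conj_mem k hk.1 g, ?_⟩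
    show σ (g * k * g⁻¹) v = v
    have e : σ g⁻¹ v = u := by
      rw [← hg, ← MulAut.mul_apply, ← map_mul σ g⁻¹ g, inv_mul_cancel, map_one, MulAut.one_apply]
    rw [map_mul, map_mul, MulAut.mul_apply, MulAut.mul_apply, e, hk.2, hg]
  have hmax : ∀ u v, u ≠ 1 → v ≠ 1 → st u ≤ st v → st u = st v := fun u v hu hv hle =>
    Subgroup.eq_of_le_of_card_ge hle (hcard v u hv hu)
  obtain ⟨k₀, hk₀, hk₀1⟩ := hne
  have hodd : Odd r := by
    refine hr.odd_of_ne_two fun hr2 => hk₀1 (MulEquiv.ext fun v => ?_)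
    rw [MulAut.one_apply]
    by_contra hv
    have hv1 : v ≠ 1 := fun e => hv (by rw [e, map_one])
    have hu1 : v * σ k₀ v ≠ 1 := fun e => hv (mul_left_cancel ((hV2 v).trans e.symm)).symm
    have hle : st v ≤ st (v * σ k₀ v) := fun l hl =>
      ⟨hl.1, by rw [map_mul, hl.2, hKc l hl.1 k₀ hk₀, hl.2]⟩
    have hk : k₀ ∈ st (v * σ k₀ v) := ⟨hk₀, by
      rw [map_mul, ← MulAut.mul_apply, ← map_mul σ, ← pow_two, ← hr2, hKr k₀ hk₀, MulAut.one_apply,
        mul_comm]⟩
    rw [← hmax v _ hv1 hu1 hle] at hk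
    exact hv hk.2
  refine ⟨hodd, fun k hk hk1 v hfix => ?_⟩
  by_contra hv1
  obtain ⟨v', hv'⟩ : ∃ v', σ k v' ≠ v' := by
    by_contra h
    push Not at h
    exact hk1 (MulEquiv.ext h)
  set y := v' * σ k v' with hy
  have hy1 : y ≠ 1 := fun e => hv' (mul_left_cancel ((hV2 v').trans e.symm)).symm
  have hkr : σ (k ^ r) v' = v' := by rw [hKr k hk, MulAut.one_apply]
  -- the trace of `k` kills `y`
  have hT : ∏ j ∈ Finset.range r, σ (k ^ j) y = 1 := by
    simp only [hy, map_mul, Finset.prod_mul_distrib]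
    have h1 : ∏ j ∈ Finset.range r, σ (k ^ j) (σ k v') =
        σ k (∏ j ∈ Finset.range r, σ (k ^ j) v') := by
      rw [map_prod]
      exact Finset.prod_congr rfl fun j _ => hKc _ (K.pow_mem hk j) k hk v'
    rw [h1, map_prod_range σ k r v' hkr, hV2]
  have hfixj : ∀ (z : V), σ k z = z → ∀ j : ℕ, σ (k ^ j) z = z := by
    intro z hz j
    induction j with
    | zero => rw [pow_zero, map_one, MulAut.one_apply]
    | succ j ih => rw [pow_succ, map_mul, MulAut.mul_apply, hz, ih]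
  -- meets the fixed points trivially
  have hzero : ∀ z : V, σ k z = z → ∏ j ∈ Finset.range r, σ (k ^ j) z = 1 → z = 1 := by
    intro z hz hz'
    rw [Finset.prod_congr rfl (fun j _ => hfixj z hz j), Finset.prod_const, Finset.card_range] at hz'
    exact eq_one_of_odd_pow (hV2 z) hodd hz'
  have hu1 : v * y ≠ 1 := fun e => by
    have : y = v := (mul_left_cancel ((hV2 v).trans e.symm)).symm
    exact hy1 (hzero y (by rw [this]; exact hfix) hT)
  have hle : st (v * y) ≤ st v := by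
    intro l hl
    refine ⟨hl.1, ?_⟩
    have h1 : σ l v * σ l y = v * y := by rw [← map_mul]; exact hl.2
    have h2 : v * σ l v = y * σ l y := by
      calc v * σ l v = v * σ l v * (σ l y * σ l y) := by rw [hV2, mul_one]
        _ = v * (σ l v * σ l y) * σ l y := by simp only [mul_assoc]
        _ = v * (v * y) * σ l y := by rw [h1]
        _ = y * σ l y := by rw [← mul_assoc v v y, hV2, one_mul]
    have h3 : v * σ l v = 1 := hzero _ (by rw [map_mul, hfix, hKc k hk l hl.1, hfix]) (by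
      rw [h2]
      simp only [map_mul, Finset.prod_mul_distrib]
      have h4 : ∏ j ∈ Finset.range r, σ (k ^ j) (σ l y) =
          σ l (∏ j ∈ Finset.range r, σ (k ^ j) y) := by
        rw [map_prod]
        exact Finset.prod_congr rfl fun j _ => hKc _ (K.pow_mem hk j) l hl.1 y
      rw [h4, hT, map_one, one_mul])
    exact (mul_left_cancel ((hV2 v).trans h3.symm)).symm
  have hk' : k ∈ st (v * y) := hmax _ v hu1 hv1 hle ▸ ⟨hk, hfix⟩
  refine hy1 (hzero y ?_ hT)
  have := hk'.2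
  rw [map_mul, hfix] at this
  exact mul_left_cancel this

/-- In a soluble nontrivial group some normal subgroup is nontrivial abelian of prime exponent. -/
theorem exists_normal_prime_exponent {H : Type*} [Group H] [Finite H] [Group.IsSolvable H]
    [Nontrivial H] :
    ∃ (E : Subgroup H) (r : ℕ), E.Normal ∧ r.Prime ∧ E ≠ ⊥ ∧
      (∀ a ∈ E, ∀ b ∈ E, a * b = b * a) ∧ ∀ a ∈ E, a ^ r = 1 := by
  classical
  have hsol : ∃ n, derivedSeries H n = ⊥ := (isSolvable_def H).mp inferInstance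
  obtain ⟨d, hd⟩ : ∃ d, Nat.find hsol = d + 1 := by
    refine Nat.exists_eq_add_one.mpr (Nat.pos_of_ne_zero fun e => ?_)
    have h0 := Nat.find_spec hsol
    rw [e, derivedSeries_zero] at h0
    exact top_ne_bot h0
  have hne : derivedSeries H d ≠ ⊥ := Nat.find_min hsol (by omega)
  have hab : ∀ a ∈ derivedSeries H d, ∀ b ∈ derivedSeries H d, a * b = b * a := by
    intro a ha b hb
    have h1 := Nat.find_spec hsol
    rw [hd, derivedSeries_succ] at h1
    exact commutatorElement_eq_one_iff_mul_comm.mp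
      (Subgroup.mem_bot.mp (h1 ▸ Subgroup.commutator_mem_commutator ha hb))
  obtain ⟨r, hr, hdvd⟩ := Nat.exists_prime_and_dvd
    (fun e => hne (Subgroup.eq_bot_of_card_eq _ e))
  let E : Subgroup H :=
    { carrier := {a | a ∈ derivedSeries H d ∧ a ^ r = 1}
      one_mem' := ⟨Subgroup.one_mem _, one_pow r⟩
      mul_mem' := fun {a b} ha hb => ⟨Subgroup.mul_mem _ ha.1 hb.1, by
        rw [(show Commute a b from hab a ha.1 b hb.1).mul_pow, ha.2, hb.2, one_mul]⟩
      inv_mem' := fun {a} ha => ⟨Subgroup.inv_mem _ ha.1, by rw [inv_pow, ha.2, inv_one]⟩ }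
  refine ⟨E, r, ⟨fun a ha g => ⟨(derivedSeries_normal H d).conj_mem a ha.1 g, by
    rw [conj_pow, ha.2, mul_one, mul_inv_cancel]⟩⟩, hr, ?_, fun a ha b hb => hab a ha.1 b hb.1,
    fun a ha => ha.2⟩
  haveI : Fact r.Prime := ⟨hr⟩
  obtain ⟨a, ha⟩ := exists_prime_orderOf_dvd_card' r hdvd
  intro e
  have : (a : H) ∈ E := ⟨a.2, by rw [← Subgroup.coe_pow, ← ha, pow_orderOf_eq_one]; rfl⟩
  rw [e, Subgroup.mem_bot, OneMemClass.coe_eq_one] at this
  rw [this, orderOf_one] at ha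
  exact hr.ne_one ha.symm

end CfsgLib.TwoLength
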