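import Mathlib
import Cfsg.Agent.Lib.TwoLength.Blocks
import Cfsg.Agent.Lib.TwoLength.Reduced

/-!
The quadratic map on the critical subgroup of `O₂(G)`.
-/

set_option autoImplicit false
set_option linter.unusedSectionVars false
set_option linter.style.haveILetI false

open scoped IsMulCommutative

namespace CfsgLib.TwoLength

variable {G : Type*} [Group G] [Finite G]

/-- The standing hypotheses: `V` is the group of all involutions, permuted transitively. -/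
structure OneClass (Q V : Subgroup G) : Prop where
  pgroup : IsPGroup 2 Q
  centralizer_le : Subgroup.centralizer (Q : Set G) ≤ Q
  mem_iff : ∀ x, x ∈ V ↔ x ^ 2 = 1
  le : V ≤ Q
  comm : ∀ v ∈ V, ∀ y ∈ Q, y * v = v * y
  ne_bot : V ≠ ⊥
  trans : ∀ u v, u ≠ 1 → u ∈ V → v ≠ 1 → v ∈ V → ∃ g : G, g * u * g⁻¹ = v

variable {Q V : Subgroup G}

theorem OneClass.isMulCommutative (h : OneClass Q V) : IsMulCommutative V :=
  ⟨⟨fun a b => Subtype.ext (h.comm b b.2 a (h.le a.2))⟩⟩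

theorem OneClass.mem_normal (h : OneClass Q V) : V.Normal :=
  ⟨fun x hx g => (h.mem_iff _).mpr (by rw [conj_pow, (h.mem_iff x).mp hx, mul_one, mul_inv_cancel])⟩

/-- If `x⁻¹ a x a⁻¹` is fixed by `a`, of `2`-power order, with `a` of odd order, it is trivial. -/
theorem conj_eq_self_of_fixed_diff {a x : G} {n : ℕ} (hn : Odd n) (ha : a ^ n = 1) {m : ℕ}
    (hm : (x⁻¹ * (a * x * a⁻¹)) ^ 2 ^ m = 1)
    (hfix : a * (x⁻¹ * (a * x * a⁻¹)) * a⁻¹ = x⁻¹ * (a * x * a⁻¹)) : a * x * a⁻¹ = x := by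
  set d := x⁻¹ * (a * x * a⁻¹) with hd
  have hx : a * x * a⁻¹ = x * d := by rw [hd, mul_inv_cancel_left]
  clear_value d
  have hk : ∀ k : ℕ, a ^ k * x * (a ^ k)⁻¹ = x * d ^ k := by
    intro k
    induction k with
    | zero => simp
    | succ k ih =>
      calc a ^ (k + 1) * x * (a ^ (k + 1))⁻¹ = a * (a ^ k * x * (a ^ k)⁻¹) * a⁻¹ := by
            rw [pow_succ']; group
        _ = (a * x * a⁻¹) * (a * d * a⁻¹) ^ k := by rw [ih, conj_pow]; group
        _ = x * d ^ (k + 1) := by rw [hfix, hx, mul_assoc, ← pow_succ']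
  have h1 := hk n
  rw [ha, one_mul, inv_one, mul_one, left_eq_mul] at h1
  rw [hx, eq_one_of_two_pow_of_odd hm hn h1, mul_one]

theorem normal_map_subtype_of_char [Q.Normal] (C : Subgroup Q) (hC : C.Characteristic) :
    (C.map Q.subtype).Normal := by
  refine ⟨?_⟩
  rintro _ ⟨x, hx, rfl⟩ g
  exact ⟨MulAut.conjNormal g x,
    (Subgroup.characteristic_iff_map_eq.mp hC (MulAut.conjNormal g)).le ⟨x, hx, rfl⟩,
    by simp [MulAut.conjNormal_apply]⟩

/-- Both commutation results for elementary abelian groups of odd order centralising `V`. -/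
theorem centralizes [Q.Normal] [IsMulCommutative V] [V.Normal] (h : OneClass Q V) {A : Subgroup G}
    {r : ℕ} (hr : r.Prime) (hodd : Odd r) (hAc : ∀ a ∈ A, ∀ b ∈ A, a * b = b * a)
    (hAr : ∀ a ∈ A, a ^ r = 1) (hAV : A ≤ Subgroup.centralizer (V : Set G)) :
    (∀ g ∈ Subgroup.normalizer (A : Set G), g ∈ Subgroup.centralizer (V : Set G) →
      ∀ k : ℕ, g ^ r ^ k = 1 → ∀ a ∈ A, g * a = a * g) ∧
    (∀ t ∈ Subgroup.normalizer (A : Set G), t ∈ Subgroup.centralizer (V : Set G) →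
      ∀ w ∈ Subgroup.normalizer (A : Set G), ∀ s : ℕ, s.Prime →
        w ^ s ∈ Subgroup.centralizer (V : Set G) → (∀ v ∈ V, w * v * w⁻¹ = v → v = 1) →
        ∀ a ∈ A, t⁻¹ * w * t * w⁻¹ * a = a * (t⁻¹ * w * t * w⁻¹)) := by
  classical
  haveI : Fact (Nat.Prime 2) := ⟨Nat.prime_two⟩
  obtain ⟨H, hHchar, hH2, hHc, hHcent⟩ := CfsgLib.Critical.exists_isCrit h.pgroup
  set Cc : Subgroup G := H.map Q.subtype with hCcdef
  haveI hCcn : Cc.Normal := normal_map_subtype_of_char H hHchar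
  set Z : Subgroup G := Cc ⊓ Subgroup.centralizer (Cc : Set G) with hZdef
  haveI hZn : Z.Normal := inferInstance
  have hCcQ : Cc ≤ Q := Subgroup.map_subtype_le H
  have hmemZ : ∀ x : Q, x ∈ H ⊓ Subgroup.centralizer (H : Set Q) → (x : G) ∈ Z := by
    intro x hx
    refine ⟨⟨x, hx.1, rfl⟩, Subgroup.mem_centralizer_iff.mpr ?_⟩
    rintro _ ⟨y, hy, rfl⟩
    exact congrArg Subtype.val (Subgroup.mem_centralizer_iff.mp hx.2 y hy)
  have hsqZ : ∀ x ∈ Cc, x ^ 2 ∈ Z := by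
    rintro _ ⟨x, hx, rfl⟩
    simpa using hmemZ _ (hH2 x hx)
  have hcommZ : ∀ x ∈ Cc, ∀ y ∈ Q, x * y * x⁻¹ * y⁻¹ ∈ Z := by
    rintro _ ⟨x, hx, rfl⟩ y hy
    simpa [commutatorElement_def] using
      hmemZ _ (hHc (Subgroup.commutator_mem_commutator hx (Subgroup.mem_top (⟨y, hy⟩ : Q))))
  have hVCc : V ≤ Cc := fun v hv => ⟨⟨v, h.le hv⟩, hHcent (Subgroup.mem_centralizer_iff.mpr
    fun y _ => Subtype.ext (h.comm v hv y y.2)), rfl⟩
  have hVZ : V ≤ Z := fun v hv => ⟨hVCc hv,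
    Subgroup.mem_centralizer_iff.mpr fun y hy => h.comm v hv y (hCcQ hy)⟩
  have hZc : ∀ z ∈ Z, ∀ x ∈ Cc, Commute x z := fun z hz x hx =>
    Subgroup.mem_centralizer_iff.mp hz.2 x hx
  have hZZ : ∀ z ∈ Z, ∀ z' ∈ Z, Commute z z' := fun z hz z' hz' => hZc z' hz' z hz.1
  -- the exponent of `Z`
  have hexists : ∃ f, ∀ z ∈ Z, z ^ 2 ^ f = 1 := by
    obtain ⟨k, hk⟩ := IsPGroup.iff_card.mp h.pgroup
    refine ⟨k, fun z hz => ?_⟩
    rw [← hk]
    exact congrArg Subtype.val (pow_card_eq_one' (x := (⟨z, hCcQ hz.1⟩ : Q)))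
  obtain ⟨f, hf, hfmin⟩ : ∃ f, (∀ z ∈ Z, z ^ 2 ^ f = 1) ∧
      ∀ f' < f, ¬ ∀ z ∈ Z, z ^ 2 ^ f' = 1 :=
    ⟨Nat.find hexists, Nat.find_spec hexists, fun f' hf' => Nat.find_min hexists hf'⟩
  obtain ⟨e, rfl⟩ : ∃ e, f = e + 1 := by
    refine Nat.exists_eq_add_one.mpr (Nat.pos_of_ne_zero fun hf0 => h.ne_bot ?_)
    subst hf0
    exact eq_bot_iff.mpr fun v hv => Subgroup.mem_bot.mpr (by simpa using hf v (hVZ hv))
  obtain ⟨z₀, hz₀, hz₀1⟩ : ∃ z ∈ Z, z ^ 2 ^ e ≠ 1 := by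
    by_contra hh
    push Not at hh
    exact hfmin e (Nat.lt_succ_self e) hh
  have hpow2 : ∀ x : G, x ^ 2 ^ (e + 1) = (x ^ 2) ^ 2 ^ e := fun x => by rw [← pow_mul, ← pow_succ']
  have hpowe : ∀ z ∈ Z, z ^ 2 ^ e ∈ V := fun z hz => (h.mem_iff _).mpr (by
    rw [← pow_mul, ← pow_succ, hf z hz])
  have hallpow : ∀ v ∈ V, ∃ z ∈ Z, z ^ 2 ^ e = v := by
    intro v hv
    by_cases hv1 : v = 1
    · exact ⟨1, Z.one_mem, by rw [hv1, one_pow]⟩
    obtain ⟨g, hg⟩ := h.trans _ v hz₀1 (hpowe z₀ hz₀) hv1 hv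
    exact ⟨g * z₀ * g⁻¹, hZn.conj_mem _ hz₀ g, by rw [conj_pow, hg]⟩
  have hroot : ∀ j, j ≤ e → ∀ z ∈ Z, z ^ 2 ^ j = 1 → ∃ y ∈ Z, y ^ 2 = z := by
    intro j
    induction j with
    | zero => intro _ z _ hz1; exact ⟨1, Z.one_mem, by simpa using hz1.symm⟩
    | succ j ih =>
      intro hj z hz hz1
      have hu : z ^ 2 ^ j ∈ V := (h.mem_iff _).mpr (by rw [← pow_mul, ← pow_succ, hz1])
      obtain ⟨y₀, hy₀, hy₀e⟩ := hallpow _ hu
      obtain ⟨i, hi⟩ : ∃ i, e = j + 1 + i := ⟨e - (j + 1), by omega⟩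
      set y₁ := (y₀ ^ 2 ^ i) ^ 2 with hy₁
      have hy₁Z : y₁ ∈ Z := Z.pow_mem (Z.pow_mem hy₀ _) 2
      have hy₁j : y₁ ^ 2 ^ j = z ^ 2 ^ j := by
        rw [hy₁, ← pow_mul, ← pow_mul, ← hy₀e, hi]
        congr 1
        ring
      obtain ⟨y, hy, hy2⟩ := ih (by omega) (z * y₁⁻¹) (Z.mul_mem hz (Z.inv_mem hy₁Z)) (by
        rw [(hZZ z hz _ (Z.inv_mem hy₁Z)).mul_pow, inv_pow, hy₁j, mul_inv_cancel])
      exact ⟨y * y₀ ^ 2 ^ i, Z.mul_mem hy (Z.pow_mem hy₀ _), by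
        rw [(hZZ y hy _ (Z.pow_mem hy₀ _)).mul_pow, hy2, ← hy₁, inv_mul_cancel_right]⟩
  -- the module
  set Z' : Subgroup Cc := Z.subgroupOf Cc with hZ'def
  haveI : Z'.Normal := inferInstance
  have hsq : ∀ x : Cc ⧸ Z', x * x = 1 := by
    intro x
    obtain ⟨x, rfl⟩ := QuotientGroup.mk_surjective x
    rw [← QuotientGroup.mk_mul, QuotientGroup.eq_one_iff, Subgroup.mem_subgroupOf]
    simpa [pow_two] using hsqZ x x.2
  letI : CommGroup (Cc ⧸ Z') :=
    { (inferInstance : Group (Cc ⧸ Z')) with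
      mul_comm := fun a b => by
        have hi : ∀ x : Cc ⧸ Z', x⁻¹ = x := fun x => inv_eq_of_mul_eq_one_right (hsq x)
        rw [← hi (a * b), mul_inv_rev, hi, hi] }
  have hmap : ∀ g : G, Z'.map ((MulAut.conjNormal g : MulAut Cc) : Cc →* Cc) = Z' := by
    intro g
    ext x
    rw [Subgroup.mem_map]
    constructor
    · rintro ⟨y, hy, rfl⟩
      rw [Subgroup.mem_subgroupOf] at hy ⊢
      simpa using hZn.conj_mem _ hy g
    · intro hx
      refine ⟨MulAut.conjNormal g⁻¹ x, ?_, by simp⟩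
      rw [Subgroup.mem_subgroupOf] at hx ⊢
      simpa [mul_assoc] using hZn.conj_mem _ hx g⁻¹
  let ρ : G →* MulAut (Cc ⧸ Z') :=
    { toFun := fun g => QuotientGroup.congr Z' Z' (MulAut.conjNormal g) (hmap g)
      map_one' := by
        ext x
        obtain ⟨x, rfl⟩ := QuotientGroup.mk_surjective x
        simp
      map_mul' := fun g g' => by
        ext x
        obtain ⟨x, rfl⟩ := QuotientGroup.mk_surjective x
        simp }
  let σ : G →* MulAut V := MulAut.conjNormal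
  have hqmem : ∀ x : Cc, (x : G) ^ 2 ^ (e + 1) ∈ V := fun x => by
    rw [hpow2]; exact hpowe _ (hsqZ x x.2)
  let q : Cc ⧸ Z' → V := fun m => ⟨((Quotient.out m : Cc) : G) ^ 2 ^ (e + 1), hqmem _⟩
  have hq : ∀ x : Cc, ((q (x : Cc ⧸ Z') : V) : G) = (x : G) ^ 2 ^ (e + 1) := by
    intro x
    obtain ⟨z, hz⟩ := QuotientGroup.mk_out_eq_mul Z' x
    show ((Quotient.out (x : Cc ⧸ Z') : Cc) : G) ^ 2 ^ (e + 1) = _
    rw [hz, Subgroup.coe_mul, (hZc _ (Subgroup.mem_subgroupOf.mp z.2) x x.2).mul_pow,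
      hf _ (Subgroup.mem_subgroupOf.mp z.2), mul_one]
  let β : Cc ⧸ Z' → Cc ⧸ Z' → V := fun m n => q (m * n) * q m * q n
  have hV2 : ∀ v : V, v * v = 1 := fun v =>
    Subtype.ext (by simpa [pow_two] using (h.mem_iff (v : G)).mp v.2)
  -- the commutator formula
  have hβ : ∀ x y : Cc, ((β x y : V) : G) = ((y : G) * x * (y : G)⁻¹ * (x : G)⁻¹) ^ 2 ^ e := by
    intro x y
    set c := (y : G) * x * (y : G)⁻¹ * (x : G)⁻¹ with hc
    have hcZ : c ∈ Z := hcommZ y y.2 x (hCcQ x.2)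
    have hcc : ∀ g ∈ Cc, Commute g c := hZc c hcZ
    have h2 := CfsgLib.OddOmega.mul_pow_of_central (Q := Cc) x y ⟨c, hcZ.1⟩
      (Subgroup.mem_center_iff.mpr fun g => Subtype.ext (hcc g g.2))
      (Subtype.ext (by simp [hc, mul_assoc])) (2 ^ (e + 1))
    have h3 := congrArg Subtype.val h2
    simp only [Subgroup.coe_mul, Subgroup.coe_pow] at h3
    have hce : (c ^ 2 ^ e) ^ 2 = 1 := (h.mem_iff _).mp (hpowe c hcZ)
    have hchoose : c ^ (2 ^ (e + 1)).choose 2 = c ^ 2 ^ e := by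
      have h4 : (2 ^ (e + 1)).choose 2 = 2 ^ e * (2 * (2 ^ e - 1) + 1) := by
        rw [Nat.choose_two_right, show 2 * (2 ^ e - 1) + 1 = 2 ^ (e + 1) - 1 by
          have := Nat.one_le_two_pow (n := e); rw [pow_succ]; omega]
        rw [pow_succ, mul_comm (2 ^ e) 2, mul_assoc, Nat.mul_div_cancel_left _ two_pos]
      rw [h4, pow_mul, pow_succ, pow_mul, hce, one_pow, one_mul]
    rw [hchoose] at h3
    show ((q ((x : Cc ⧸ Z') * y) * q x * q y : V) : G) = _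
    rw [Subgroup.coe_mul, Subgroup.coe_mul, ← QuotientGroup.mk_mul, hq, hq, hq, Subgroup.coe_mul, h3]
    have hxV := hqmem x
    have hyV := hqmem y
    calc c ^ 2 ^ e * ((x : G) ^ 2 ^ (e + 1) * (y : G) ^ 2 ^ (e + 1)) * (x : G) ^ 2 ^ (e + 1) *
          (y : G) ^ 2 ^ (e + 1)
        = c ^ 2 ^ e * ((x : G) ^ 2 ^ (e + 1) * (x : G) ^ 2 ^ (e + 1)) *
            ((y : G) ^ 2 ^ (e + 1) * (y : G) ^ 2 ^ (e + 1)) := by
          simp only [mul_assoc]
          rw [← mul_assoc ((y : G) ^ 2 ^ (e + 1)) ((x : G) ^ 2 ^ (e + 1)),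
            h.comm _ hxV _ (h.le hyV), mul_assoc]
      _ = c ^ 2 ^ e := by
          rw [← pow_two, ← pow_two, (h.mem_iff _).mp hxV, (h.mem_iff _).mp hyV, mul_one, mul_one]
  have hquad : QuadData ρ σ q β := by
    refine ⟨hsq, hV2, fun m n => ?_, fun m n n' => ?_, fun m hm => ?_, fun g m => ?_⟩
    · show q (m * n) = q m * q n * (q (m * n) * q m * q n)
      have hcomm : ∀ a b : V, a * b * (a * b) = 1 := fun a b => hV2 _
      calc q (m * n) = q m * q n * (q m * q n) * q (m * n) := by rw [hcomm, one_mul]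
        _ = _ := by ac_rfl
    · obtain ⟨x, rfl⟩ := QuotientGroup.mk_surjective m
      obtain ⟨y, rfl⟩ := QuotientGroup.mk_surjective n
      obtain ⟨y', rfl⟩ := QuotientGroup.mk_surjective n'
      apply Subtype.ext
      rw [← QuotientGroup.mk_mul]
      refine (hβ x (y * y')).trans ?_
      refine Eq.trans ?_ (congrArg₂ (· * ·) (hβ x y).symm (hβ x y').symm)
      rw [Subgroup.coe_mul]
      set c' := (y' : G) * x * (y' : G)⁻¹ * (x : G)⁻¹ with hc'
      have hc'Z : c' ∈ Z := hcommZ y' y'.2 x (hCcQ x.2)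
      have hcZ : (y : G) * x * (y : G)⁻¹ * (x : G)⁻¹ ∈ Z := hcommZ y y.2 x (hCcQ x.2)
      have e1 : (y : G) * y' * x * ((y : G) * y')⁻¹ * (x : G)⁻¹ =
          c' * ((y : G) * x * (y : G)⁻¹ * (x : G)⁻¹) := by
        calc (y : G) * y' * x * ((y : G) * y')⁻¹ * (x : G)⁻¹
            = (y : G) * c' * (x * (y : G)⁻¹ * (x : G)⁻¹) := by rw [hc']; group
          _ = _ := by
            rw [(hZc c' hc'Z y y.2).eq]
            group
      rw [e1, (hZZ _ hc'Z _ hcZ).mul_pow, ((hZZ _ hc'Z _ hcZ).pow_pow _ _).eq]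
    · obtain ⟨x, rfl⟩ := QuotientGroup.mk_surjective m
      have h1 : (x : G) ^ 2 ^ (e + 1) = 1 := by rw [← hq, hm]; rfl
      obtain ⟨z, hz, hz2⟩ := hroot e le_rfl _ (hsqZ x x.2) (by rw [← hpow2]; exact h1)
      have h3 : (x : G) * z⁻¹ ∈ V := (h.mem_iff _).mpr (by
        rw [((hZc z hz x x.2).inv_right).mul_pow, inv_pow, hz2, mul_inv_cancel])
      rw [QuotientGroup.eq_one_iff, Subgroup.mem_subgroupOf]
      simpa using Z.mul_mem (hVZ h3) hz
    · obtain ⟨x, rfl⟩ := QuotientGroup.mk_surjective m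
      apply Subtype.ext
      show ((q (ρ g x) : V) : G) = ((σ g (q x) : V) : G)
      have : ρ g (x : Cc ⧸ Z') = ((MulAut.conjNormal g x : Cc) : Cc ⧸ Z') := rfl
      rw [this, hq, MulAut.conjNormal_apply, MulAut.conjNormal_apply, hq, conj_pow]
  have hσ : ∀ g ∈ Subgroup.centralizer (V : Set G), σ g = 1 := fun g hg => MulEquiv.ext fun v =>
    Subtype.ext (by
      simp only [σ, MulAut.conjNormal_apply, MulAut.one_apply]
      rw [← Subgroup.mem_centralizer_iff.mp hg v v.2, mul_inv_cancel_right])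
  have hA : OddAbelian σ A r := ⟨hr, hodd, hAc, hAr, fun a ha => hσ a (hAV ha)⟩
  have hfaith : ∀ a ∈ A, ρ a = 1 → a = 1 := by
    intro a ha hρ
    have hCcdiff : ∀ x ∈ Cc, x⁻¹ * (a * x * a⁻¹) ∈ Z := by
      intro x hx
      have h1 := congrArg (fun φ : MulAut (Cc ⧸ Z') => φ ((⟨x, hx⟩ : Cc) : Cc ⧸ Z')) hρ
      have h2 : ((MulAut.conjNormal a ⟨x, hx⟩ : Cc) : Cc ⧸ Z') = ((⟨x, hx⟩ : Cc) : Cc ⧸ Z') := h1
      have h3 := QuotientGroup.eq.mp h2.symm
      rw [Subgroup.mem_subgroupOf] at h3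
      simpa using h3
    have hfV : ∀ v ∈ V, a * v * a⁻¹ = v := fun v hv => by
      rw [← Subgroup.mem_centralizer_iff.mp (hAV ha) v hv, mul_inv_cancel_right]
    have hfZ : ∀ j : ℕ, ∀ z ∈ Z, z ^ 2 ^ j = 1 → a * z * a⁻¹ = z := by
      intro j
      induction j with
      | zero => intro z _ hz1; rw [pow_zero, pow_one] at hz1; simp [hz1]
      | succ j ih =>
        intro z hz hz1
        have h2 := ih (z ^ 2) (Z.pow_mem hz 2) (by rw [← pow_mul, ← pow_succ', hz1])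
        have hd : (z⁻¹ * (a * z * a⁻¹)) ^ 2 = 1 := by
          rw [(hZZ _ (Z.inv_mem hz) _ (hZn.conj_mem z hz a)).mul_pow, conj_pow, h2, inv_pow,
            inv_mul_cancel]
        exact conj_eq_self_of_fixed_diff hodd (hAr a ha) (m := 1) (by rwa [pow_one])
          (hfV _ ((h.mem_iff _).mpr hd))
    have hfC : ∀ x ∈ Cc, a * x * a⁻¹ = x := fun x hx => by
      have hdZ := hCcdiff x hx
      exact conj_eq_self_of_fixed_diff hodd (hAr a ha) (hf _ hdZ) (hfZ _ _ hdZ (hf _ hdZ))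
    set φ : MulAut Q := MulAut.conjNormal a with hφ
    have hord : (orderOf φ).Coprime 2 := by
      have h1 : orderOf φ ∣ r := (orderOf_map_dvd _ a).trans (orderOf_dvd_of_pow_eq_one (hAr a ha))
      exact Nat.Coprime.coprime_dvd_left h1 (Nat.coprime_two_right.mpr hodd)
    haveI := hHchar
    have hφ1 : φ = 1 := CfsgLib.Critical.mulAut_eq_one h.pgroup H hHcent φ hord fun x hx => by
      apply Subtype.ext
      rw [hφ, MulAut.conjNormal_apply]
      exact hfC _ ⟨x, hx, rfl⟩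
    have haQ : a ∈ Q := h.centralizer_le (Subgroup.mem_centralizer_iff.mpr fun g hg => by
      have h1 : a * g * a⁻¹ = g := by
        have := congrArg (fun e : MulAut Q => ((e ⟨g, hg⟩ : Q) : G)) hφ1
        simpa [hφ, MulAut.conjNormal_apply] using this
      exact (mul_inv_eq_iff_eq_mul.mp h1).symm)
    obtain ⟨m, hm⟩ := h.pgroup ⟨a, haQ⟩
    exact eq_one_of_two_pow_of_odd (by simpa using congrArg Subtype.val hm) hodd (hAr a ha)
  refine ⟨fun g hg hgV k hk => commute_of_pow hquad hA hfaith hg (hσ g hgV) hk,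
    fun t ht htV w hw s hs hws hfpf =>
      commute_of_commutator hquad hA hfaith ht (hσ t htV) hw hs (hσ _ hws) fun v hv => ?_⟩
  have := congrArg Subtype.val hv
  simp only [σ, MulAut.conjNormal_apply] at this
  exact Subtype.ext (hfpf v v.2 this)

end CfsgLib.TwoLength
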