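import Mathlib
import Cfsg.Agent.Lib.TwoLength.Setup
import Cfsg.Agent.Lib.TwoLength.Reduced
import Cfsg.Agent.Lib.PSolvable.Core
import Cfsg.Agent.Lib.Fitting.Basic
import Cfsg.Agent.Lib.OddOmega.Basic

/-!
Thompson's theorem on soluble groups with one class of involutions, reduced case.
-/

set_option autoImplicit false
set_option linter.unusedSectionVars false
set_option linter.style.haveILetI false

namespace CfsgLib.TwoLength

open scoped Pointwise

variable {G : Type*} [Group G] [Finite G]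

theorem mem_normalizer_of_conj_mem {A : Subgroup G} {g : G} (h : ∀ x ∈ A, g * x * g⁻¹ ∈ A) :
    g ∈ Subgroup.normalizer (A : Set G) := by
  have heq : A.map (MulAut.conj g).toMonoidHom = A := by
    refine Subgroup.eq_of_le_of_card_ge ?_
      (Subgroup.card_map_of_injective (f := (MulAut.conj g).toMonoidHom) (MulAut.conj g).injective).ge
    rintro _ ⟨x, hx, rfl⟩
    exact h x hx
  refine Subgroup.mem_normalizer_iff.mpr fun x => ⟨h x, fun hx => ?_⟩
  rw [← heq] at hx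
  exact (Subgroup.mem_map_iff_mem (f := (MulAut.conj g).toMonoidHom) (MulAut.conj g).injective).mp hx

theorem relIndex_coprime_two {Q K : Subgroup G} [Q.Normal] (h : ∀ k ∈ K, k ^ 2 ∈ Q → k ∈ Q) :
    (Q.relIndex K).Coprime 2 := by
  refine Nat.coprime_comm.mp (Nat.prime_two.coprime_iff_not_dvd.mpr fun hd => ?_)
  haveI : Fact (Nat.Prime 2) := ⟨Nat.prime_two⟩
  obtain ⟨x, hx⟩ := exists_prime_orderOf_dvd_card' (G := K ⧸ Q.subgroupOf K) 2 hd
  obtain ⟨k, rfl⟩ := QuotientGroup.mk_surjective x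
  have h1 := pow_orderOf_eq_one (k : K ⧸ Q.subgroupOf K)
  rw [hx, ← QuotientGroup.mk_pow, QuotientGroup.eq_one_iff, Subgroup.mem_subgroupOf,
    Subgroup.coe_pow] at h1
  have h2 : ((k : K) : K ⧸ Q.subgroupOf K) = 1 :=
    (QuotientGroup.eq_one_iff k).mpr (Subgroup.mem_subgroupOf.mpr (h k k.2 h1))
  rw [h2, orderOf_one] at hx
  omega

theorem mem_of_two_pow_eq_one {Q K : Subgroup G} (h : ∀ k ∈ K, k ^ 2 ∈ Q → k ∈ Q) {m : ℕ} :
    ∀ k ∈ K, k ^ 2 ^ m ∈ Q → k ∈ Q := by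
  induction m with
  | zero => intro k _ hk; simpa using hk
  | succ m ih =>
    intro k hk hk'
    exact h k hk (ih _ (K.pow_mem hk 2) (by rwa [← pow_mul, ← pow_succ']))

/-- In an `r`-group centralising `V` elements of order `r` commute. -/
theorem commute_of_pow_eq_one {Q V : Subgroup G} [Q.Normal] [IsMulCommutative V] [V.Normal]
    (h : OneClass Q V) {r : ℕ} [hr : Fact r.Prime] (hodd : Odd r) :
    ∀ (n : ℕ) (H : Subgroup G), Nat.card H ≤ n → IsPGroup r H →
      H ≤ Subgroup.centralizer (V : Set G) →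
      ∀ a ∈ H, ∀ b ∈ H, a ^ r = 1 → b ^ r = 1 → a * b = b * a := by
  intro n
  induction n with
  | zero => intro H hH; exact absurd hH (by have := Nat.card_pos (α := H); omega)
  | succ n ih =>
    intro H hHn hHr hHV a ha b hb har hbr
    haveI : Group.IsNilpotent H := hHr.isNilpotent
    rcases eq_top_or_exists_le_coatom (Subgroup.zpowers (⟨a, ha⟩ : H)) with htop | ⟨M, hM, haM⟩
    · obtain ⟨i, hi⟩ := Subgroup.mem_zpowers_iff.mp (htop ▸ Subgroup.mem_top (⟨b, hb⟩ : H))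
      have hi' : a ^ i = b := by simpa using congrArg Subtype.val hi
      rw [← hi']
      exact ((Commute.refl a).zpow_right i).eq
    haveI hMn : M.Normal := Subgroup.NormalizerCondition.normal_of_coatom M
      (Group.normalizerCondition_of_isNilpotent (G := H)) hM
    set M' : Subgroup G := M.map H.subtype with hM'
    have hM'le : M' ≤ H := Subgroup.map_subtype_le M
    have hlt : Nat.card M' ≤ n := by
      have h1 : Nat.card M < Nat.card H := lt_of_le_of_ne (Subgroup.card_le_card_group M)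
        fun e => hM.1 ((Subgroup.card_eq_iff_eq_top M).mp e)
      rw [hM', Subgroup.card_map_of_injective H.subtype_injective]
      omega
    have hcomm := ih M' hlt (hHr.to_le hM'le) (hM'le.trans hHV)
    let A : Subgroup G :=
      { carrier := {x | x ∈ M' ∧ x ^ r = 1}
        one_mem' := ⟨M'.one_mem, one_pow r⟩
        mul_mem' := fun {x y} hx hy => ⟨M'.mul_mem hx.1 hy.1, by
          rw [(show Commute x y from hcomm x hx.1 y hy.1 hx.2 hy.2).mul_pow, hx.2, hy.2, one_mul]⟩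
        inv_mem' := fun {x} hx => ⟨M'.inv_mem hx.1, by rw [inv_pow, hx.2, inv_one]⟩ }
    have hbN : b ∈ Subgroup.normalizer (A : Set G) := mem_normalizer_of_conj_mem fun x hx => by
      obtain ⟨⟨y, hy, rfl⟩, hxr⟩ := hx
      exact ⟨⟨⟨b, hb⟩ * y * ⟨b, hb⟩⁻¹, hMn.conj_mem y hy _, rfl⟩, by
        rw [conj_pow, hxr, mul_one, mul_inv_cancel]⟩
    have haA : a ∈ A := ⟨⟨⟨a, ha⟩, haM (Subgroup.mem_zpowers _), rfl⟩, har⟩
    exact ((centralizes h (A := A) hr.out hodd (fun x hx y hy => hcomm x hx.1 y hy.1 hx.2 hy.2)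
      (fun x hx => hx.2) (fun x hx => hHV (hM'le hx.1))).1 b hbN (hHV hb) 1
      (by rw [pow_one, hbr]) a haA).symm

/-- Elements `t⁻¹ w t w⁻¹` centralise every invariant `r`-group centralising `V`. -/
theorem commutator_commute {Q V : Subgroup G} [Q.Normal] [IsMulCommutative V] [V.Normal]
    (h : OneClass Q V) {r : ℕ} [hr : Fact r.Prime] (hodd : Odd r) (P : Subgroup G)
    (hP : IsPGroup r P) (hPV : P ≤ Subgroup.centralizer (V : Set G)) {t w : G}
    (ht : t ∈ Subgroup.normalizer (P : Set G)) (htV : t ∈ Subgroup.centralizer (V : Set G))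
    (hw : w ∈ Subgroup.normalizer (P : Set G)) {p : ℕ} (hp : p.Prime)
    (hwp : w ^ p ∈ Subgroup.centralizer (V : Set G)) (hfpf : ∀ v ∈ V, w * v * w⁻¹ = v → v = 1)
    {m : ℕ} (hs : (t⁻¹ * w * t * w⁻¹) ^ 2 ^ m = 1) :
    ∀ x ∈ P, t⁻¹ * w * t * w⁻¹ * x = x * (t⁻¹ * w * t * w⁻¹) := by
  have hcomm := commute_of_pow_eq_one h (r := r) hodd _ P le_rfl hP hPV
  let A : Subgroup G :=
    { carrier := {x | x ∈ P ∧ x ^ r = 1}
      one_mem' := ⟨P.one_mem, one_pow r⟩
      mul_mem' := fun {x y} hx hy => ⟨P.mul_mem hx.1 hy.1, by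
        rw [(show Commute x y from hcomm x hx.1 y hy.1 hx.2 hy.2).mul_pow, hx.2, hy.2, one_mul]⟩
      inv_mem' := fun {x} hx => ⟨P.inv_mem hx.1, by rw [inv_pow, hx.2, inv_one]⟩ }
  have hnorm : ∀ g ∈ Subgroup.normalizer (P : Set G), g ∈ Subgroup.normalizer (A : Set G) :=
    fun g hg => mem_normalizer_of_conj_mem fun x hx =>
      ⟨(Subgroup.mem_normalizer_iff.mp hg x).mp hx.1, by
        rw [conj_pow, hx.2, mul_one, mul_inv_cancel]⟩
  have hA := (centralizes h (A := A) hr.out hodd (fun x hx y hy => hcomm x hx.1 y hy.1 hx.2 hy.2)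
    (fun x hx => hx.2) (fun x hx => hPV hx.1)).2 t (hnorm t ht) htV w (hnorm w hw) p hp hwp hfpf
  set s := t⁻¹ * w * t * w⁻¹ with hsdef
  have hsN : s ∈ Subgroup.normalizer (P : Set G) :=
    Subgroup.mul_mem _ (Subgroup.mul_mem _ (Subgroup.mul_mem _ (Subgroup.inv_mem _ ht) hw) ht)
      (Subgroup.inv_mem _ hw)
  set φ : MulAut P := P.normalizerMonoidHom ⟨s, hsN⟩ with hφ
  have hr2 : r ≠ 2 := fun e => by rw [e] at hodd; exact (by decide : ¬ Odd 2) hodd
  have hord : ¬ r ∣ orderOf φ := by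
    intro hd
    have h1 : orderOf φ ∣ 2 ^ m := (orderOf_map_dvd _ _).trans
      (orderOf_dvd_of_pow_eq_one (Subtype.ext (by simpa using hs)))
    exact hr2 ((Nat.prime_dvd_prime_iff_eq hr.out Nat.prime_two).mp
      (hr.out.dvd_of_dvd_pow (hd.trans h1)))
  have hφ1 : φ = 1 := CfsgLib.OddOmega.eq_one_of_fixes_omega hr2 hP φ hord fun x hx => by
    apply Subtype.ext
    show s * (x : G) * s⁻¹ = x
    rw [hA x ⟨x.2, by simpa using congrArg Subtype.val hx⟩, mul_inv_cancel_right]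
  intro x hx
  have h1 : s * x * s⁻¹ = x := congrArg (fun e : MulAut P => ((e ⟨x, hx⟩ : P) : G)) hφ1
  exact mul_inv_eq_iff_eq_mul.mp h1

/-- The reduced case: a normal Sylow `2`-subgroup. -/
theorem not_dvd_index_pCore_two (hG : Group.IsSolvable G) (hO : Cfsg.pPrimeCore 2 G = ⊥)
    (hinv : ∃ x y : G, x ≠ y ∧ x ≠ 1 ∧ x ^ 2 = 1 ∧ y ≠ 1 ∧ y ^ 2 = 1)
    (hconj : ∀ x y : G, x ≠ 1 → x ^ 2 = 1 → y ≠ 1 → y ^ 2 = 1 → IsConj x y) :
    ¬ 2 ∣ (Cfsg.pCore 2 G).index := by
  intro hidx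
  haveI : Fact (Nat.Prime 2) := ⟨Nat.prime_two⟩
  haveI := hG
  obtain ⟨x₀, y₀, hxy, hx₀1, hx₀2, hy₀1, hy₀2⟩ := hinv
  set Q := Cfsg.pCore 2 G with hQdef
  haveI hQn : Q.Normal := CfsgLib.Fitting.pCore_normal 2
  have hQ : IsPGroup 2 Q := CfsgLib.Fitting.pCore_isPGroup 2
  have hCQ := CfsgLib.PSolvable.centralizer_pCore_le
    (CfsgLib.PSolvable.isPSolvable_of_isSolvable (p := 2) hG) hO
  -- `V`
  let V : Subgroup G :=
    { carrier := {x | x ∈ Q ∧ (∀ y ∈ Q, y * x = x * y) ∧ x ^ 2 = 1}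
      one_mem' := ⟨Q.one_mem, fun y _ => by rw [mul_one, one_mul], one_pow 2⟩
      mul_mem' := fun {a b} ha hb => ⟨Q.mul_mem ha.1 hb.1, fun y hy => by
          rw [← mul_assoc, ha.2.1 y hy, mul_assoc, hb.2.1 y hy, mul_assoc], by
          rw [(show Commute a b from (ha.2.1 b hb.1).symm).mul_pow, ha.2.2, hb.2.2, one_mul]⟩
      inv_mem' := fun {a} ha => ⟨Q.inv_mem ha.1, fun y hy =>
          ((show Commute y a from ha.2.1 y hy).inv_right).eq, by rw [inv_pow, ha.2.2, inv_one]⟩ }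
  have hVcl : ∀ g : G, ∀ x ∈ V, g * x * g⁻¹ ∈ V := by
    intro g x hx
    refine ⟨hQn.conj_mem x hx.1 g, fun y hy => ?_, by rw [conj_pow, hx.2.2, mul_one, mul_inv_cancel]⟩
    have h1 := hx.2.1 _ (hQn.conj_mem y hy g⁻¹)
    calc y * (g * x * g⁻¹) = g * (g⁻¹ * y * g⁻¹⁻¹ * x) * g⁻¹ := by group
      _ = _ := by rw [h1]; group
  haveI hVn : V.Normal := ⟨fun x hx g => hVcl g x hx⟩
  obtain ⟨u, huV, hu1⟩ : ∃ u ∈ V, u ≠ 1 := by
    have hQne : Q ≠ ⊥ := fun hbot => hx₀1 (Subgroup.mem_bot.mp (hbot ▸ hCQ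
      (Subgroup.mem_centralizer_iff.mpr fun g hg => by
        rw [← hQdef, hbot, Subgroup.coe_bot, Set.mem_singleton_iff] at hg
        rw [hg, one_mul, mul_one])))
    haveI : Nontrivial Q := (Subgroup.nontrivial_iff_ne_bot Q).mpr hQne
    haveI hcn : Nontrivial (Subgroup.center Q) := hQ.center_nontrivial
    obtain ⟨z, hz⟩ := exists_ne (1 : Subgroup.center Q)
    have hz' : ((z : Q) : G) ≠ 1 := fun e => hz (Subtype.ext (Subtype.ext e))
    obtain ⟨m, hm⟩ := hQ (z : Q)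
    obtain ⟨i, hi, hi1, hi2⟩ := exists_involution
      (H := (Subgroup.center Q).map Q.subtype) ⟨(z : Q), z.2, rfl⟩ hz'
      (n := m) (by simpa using congrArg Subtype.val hm)
    obtain ⟨j, hj, rfl⟩ := hi
    exact ⟨_, ⟨j.2, fun y hy =>
      congrArg Subtype.val (Subgroup.mem_center_iff.mp hj ⟨y, hy⟩), hi2⟩, hi1⟩
  have hVmem : ∀ x, x ∈ V ↔ x ^ 2 = 1 := fun x => ⟨fun hx => hx.2.2, fun hx2 => by
    by_cases hx1 : x = 1
    · rw [hx1]; exact V.one_mem
    obtain ⟨g, rfl⟩ := isConj_iff.mp (hconj u x hu1 huV.2.2 hx1 hx2)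
    exact hVcl g u huV⟩
  have h : OneClass Q V := ⟨hQ, hCQ, hVmem, fun v hv => hv.1, fun v hv => hv.2.1,
    fun e => hu1 (Subgroup.mem_bot.mp (e ▸ huV)),
    fun a b ha1 ha hb1 hb => isConj_iff.mp (hconj a b ha1 ha.2.2 hb1 hb.2.2)⟩
  haveI := h.isMulCommutative
  set C := Subgroup.centralizer (V : Set G) with hCdef
  haveI hCn : C.Normal := by rw [hCdef]; infer_instance
  have hQC : Q ≤ C := fun y hy => Subgroup.mem_centralizer_iff.mpr fun v hv => (h.comm v hv y hy).symm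
  -- `K / C` abelian of prime exponent
  haveI : Nontrivial (G ⧸ C) := by
    obtain ⟨g, hg⟩ := isConj_iff.mp (hconj x₀ y₀ hx₀1 hx₀2 hy₀1 hy₀2)
    refine ⟨⟨(g : G ⧸ C), 1, fun e => hxy ?_⟩⟩
    rw [QuotientGroup.eq_one_iff] at e
    rw [← hg, ← Subgroup.mem_centralizer_iff.mp e x₀ ((hVmem x₀).mpr hx₀2), mul_inv_cancel_right]
  obtain ⟨E, p, hEn, hp, hEne, hEc, hEp⟩ := exists_normal_prime_exponent (H := G ⧸ C)
  set K : Subgroup G := E.comap (QuotientGroup.mk' C) with hKdef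
  haveI hKn : K.Normal := hEn.comap _
  have hCK : C ≤ K := fun x hx => by
    rw [hKdef, Subgroup.mem_comap, QuotientGroup.mk'_apply, (QuotientGroup.eq_one_iff x).mpr hx]
    exact E.one_mem
  have hKp : ∀ k ∈ K, k ^ p ∈ C := fun k hk => by
    rw [← QuotientGroup.eq_one_iff, QuotientGroup.mk_pow]
    exact hEp _ hk
  obtain ⟨k₀, hk₀, hk₀C⟩ : ∃ k ∈ K, k ∉ C := by
    obtain ⟨e, he, he1⟩ := (Subgroup.bot_or_exists_ne_one E).resolve_left hEne
    obtain ⟨k, rfl⟩ := QuotientGroup.mk_surjective e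
    exact ⟨k, he, fun hk => he1 ((QuotientGroup.eq_one_iff k).mpr hk)⟩
  set σ : G →* MulAut V := MulAut.conjNormal with hσdef
  have hσC : ∀ g : G, σ g = 1 ↔ g ∈ C := by
    intro g
    constructor
    · intro hg
      refine Subgroup.mem_centralizer_iff.mpr fun v hv => ?_
      have h1 : g * v * g⁻¹ = v := by
        have := congrArg (fun e : MulAut V => ((e ⟨v, hv⟩ : V) : G)) hg
        simpa [hσdef, MulAut.conjNormal_apply] using this
      exact (mul_inv_eq_iff_eq_mul.mp h1).symm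
    · intro hg
      refine MulEquiv.ext fun v => Subtype.ext ?_
      rw [hσdef, MulAut.conjNormal_apply, MulAut.one_apply,
        ← Subgroup.mem_centralizer_iff.mp hg v v.2, mul_inv_cancel_right]
  obtain ⟨hpodd, hfpf'⟩ : Odd p ∧ ∀ k ∈ K, σ k ≠ 1 → ∀ v, σ k v = v → v = 1 := by
    letI : CommGroup V :=
      { (inferInstance : Group V) with mul_comm := fun a b => h.isMulCommutative.is_comm.comm a b }
    refine semiregular σ (fun v => Subtype.ext (by simpa [pow_two] using (hVmem (v : G)).mp v.2))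
      (fun a b ha hb => ?_) K (fun k hk l hl v => ?_) hp (fun k hk => (hσC _).mpr (hKp k hk))
      ⟨k₀, hk₀, fun e => hk₀C ((hσC _).mp e)⟩
    · obtain ⟨g, hg⟩ := h.trans a b (fun e => ha (Subtype.ext e)) a.2 (fun e => hb (Subtype.ext e)) b.2
      exact ⟨g, Subtype.ext (by rw [hσdef, MulAut.conjNormal_apply]; exact hg)⟩
    · have e1 : σ ((k * l) * (l * k)⁻¹) = 1 := (hσC _).mpr <| by
        rw [← QuotientGroup.eq_one_iff, QuotientGroup.mk_mul, QuotientGroup.mk_inv,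
          QuotientGroup.mk_mul, QuotientGroup.mk_mul, mul_inv_eq_one]
        exact hEc _ hk _ hl
      rw [map_mul σ, map_inv, mul_inv_eq_one, map_mul, map_mul] at e1
      rw [← MulAut.mul_apply, e1, MulAut.mul_apply]
  have hfpf : ∀ k ∈ K, k ∉ C → ∀ v ∈ V, k * v * k⁻¹ = v → v = 1 := fun k hk hkC v hv hfix => by
    have h1 := hfpf' k hk (fun e => hkC ((hσC k).mp e)) ⟨v, hv⟩
      (Subtype.ext (by rw [hσdef, MulAut.conjNormal_apply]; exact hfix))
    exact congrArg Subtype.val h1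
  by_cases h2C : ∀ x ∈ C, ∀ m : ℕ, x ^ 2 ^ m = 1 → x ∈ Q
  · -- `K / Q` has odd order
    refine not_dvd_index_of_fpf hQ hVmem h.le h.comm K (hQC.trans hCK)
      (relIndex_coprime_two fun k hk hk2 => ?_) (fun v hv hcomm => ?_) hidx
    · obtain ⟨m, hm⟩ := pow_eq_one_of_pow_mem hQ (x := k) (n := 1) (by rwa [pow_one])
      have hkp : k ^ p ∈ Q := h2C _ (hKp k hk) m (by rw [← pow_mul, mul_comm, pow_mul, hm, one_pow])
      obtain ⟨j, hj⟩ := hpodd
      rw [hj, pow_succ, pow_mul] at hkp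
      exact (Q.mul_mem_cancel_left (Q.pow_mem hk2 j)).mp hkp
    · exact hfpf k₀ hk₀ hk₀C v hv (by rw [hcomm k₀ hk₀, mul_inv_cancel_right])
  push Not at h2C
  obtain ⟨x, hxC, mx, hxm, hxQ⟩ := h2C
  -- the Fitting subgroup modulo `Q`
  haveI : Group.IsSolvable (G ⧸ Q) := inferInstance
  set Fb := Cfsg.fittingSubgroup (G ⧸ Q) with hFb
  haveI hFbn : Fb.Normal := CfsgLib.Fitting.fittingSubgroup_normal
  haveI hFbnil : Group.IsNilpotent Fb := CfsgLib.Fitting.fittingSubgroup_isNilpotent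
  set F : Subgroup G := Fb.comap (QuotientGroup.mk' Q) with hFdef
  haveI hFn : F.Normal := hFbn.comap _
  have hQF : Q ≤ F := fun x hx => by
    rw [hFdef, Subgroup.mem_comap, QuotientGroup.mk'_apply, (QuotientGroup.eq_one_iff x).mpr hx]
    exact Subgroup.one_mem _
  have hGbp : Cfsg.pCore 2 (G ⧸ Q) = ⊥ := by
    haveI := CfsgLib.Fitting.pCore_normal (G := G ⧸ Q) 2
    have hle : (Cfsg.pCore 2 (G ⧸ Q)).comap (QuotientGroup.mk' Q) ≤ Q :=
      CfsgLib.Fitting.le_pCore inferInstance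
        ((CfsgLib.Fitting.pCore_isPGroup 2).comap_of_ker_isPGroup _ (by rw [QuotientGroup.ker_mk']; exact hQ))
    rw [eq_bot_iff]
    intro q hq
    obtain ⟨g, rfl⟩ := QuotientGroup.mk_surjective q
    exact Subgroup.mem_bot.mpr ((QuotientGroup.eq_one_iff g).mpr (hle hq))
  have hFodd : ∀ k ∈ F, k ^ 2 ∈ Q → k ∈ Q := by
    intro k hk hk2
    have hy : (⟨(k : G ⧸ Q), hk⟩ : Fb) ^ 2 = 1 := Subtype.ext (by
      simp only [Subgroup.coe_pow, Subgroup.coe_one]
      rw [← QuotientGroup.mk_pow, (QuotientGroup.eq_one_iff _).mpr hk2])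
    have hz : IsPGroup 2 (Subgroup.zpowers (⟨(k : G ⧸ Q), hk⟩ : Fb)) := by
      intro y
      obtain ⟨i, hi⟩ := Subgroup.mem_zpowers_iff.mp y.2
      refine ⟨1, Subtype.ext ?_⟩
      rw [Subgroup.coe_pow, pow_one, Subgroup.coe_one, ← hi, ← zpow_natCast, ← zpow_mul, mul_comm,
        zpow_mul, zpow_natCast, hy, one_zpow]
    obtain ⟨P, hP⟩ := hz.exists_le_sylow
    haveI hPn : (P : Subgroup Fb).Normal :=
      P.normal_of_normalizerCondition Group.normalizerCondition_of_isNilpotent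
    haveI : (P : Subgroup Fb).Characteristic := P.characteristic_of_normal hPn
    have hle : (P : Subgroup Fb).map Fb.subtype ≤ Cfsg.pCore 2 (G ⧸ Q) :=
      CfsgLib.Fitting.le_pCore (CfsgLib.PSolvable.normal_map_of_characteristic Fb _) (P.isPGroup'.map _)
    have h1 := hle ⟨_, hP (Subgroup.mem_zpowers _), rfl⟩
    rw [hGbp, Subgroup.mem_bot] at h1
    exact (QuotientGroup.eq_one_iff k).mp h1
  obtain ⟨R, hRF, hsup, hinf, hRcop, hfrat⟩ :=
    exists_complement_frattini hQ F hQF (relIndex_coprime_two hFodd)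
  have hRC : R ≤ C := by
    by_contra hne
    refine not_dvd_index_of_fpf hQ hVmem h.le h.comm F hQF (relIndex_coprime_two hFodd)
      (fun v hv hcomm => by_contra fun hv1 => hne fun r hr => ?_) hidx
    refine Subgroup.mem_centralizer_iff.mpr fun w hw => ?_
    by_cases hw1 : w = 1
    · rw [hw1, one_mul, mul_one]
    obtain ⟨g, rfl⟩ := h.trans v w hv1 hv hw1 hw
    have h1 := hcomm _ (hFn.conj_mem r (hRF hr) g⁻¹)
    calc g * v * g⁻¹ * r = g * (v * (g⁻¹ * r * g⁻¹⁻¹)) * g⁻¹ := by group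
      _ = r * (g * v * g⁻¹) := by rw [← h1]; group
  set N : Subgroup G := Subgroup.normalizer (R : Set G) with hNdef
  have hRN : R ≤ N := Subgroup.le_normalizer
  -- a `2`-element of `C ∩ N` outside `Q`
  obtain ⟨q, hq, n₀, hn₀N, hxqn⟩ := hfrat x
  have hn₀C : n₀ ∈ C := (C.mul_mem_cancel_left (hQC hq)).mp (hxqn ▸ hxC)
  have hn₀Q : n₀ ∉ Q := fun hn => hxQ (hxqn ▸ Q.mul_mem hq hn)
  obtain ⟨m₀, hm₀⟩ := pow_eq_one_of_pow_mem hQ (x := n₀) (n := mx) (by
    rw [← QuotientGroup.eq_one_iff, QuotientGroup.mk_pow,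
      show (n₀ : G ⧸ Q) = x by rw [hxqn, QuotientGroup.mk_mul, (QuotientGroup.eq_one_iff q).mpr hq, one_mul],
      ← QuotientGroup.mk_pow, hxm, QuotientGroup.mk_one])
  set CN : Subgroup N := C.subgroupOf N with hCN
  have hz : IsPGroup 2 (Subgroup.zpowers (⟨⟨n₀, hn₀N⟩, hn₀C⟩ : CN)) := by
    intro y
    obtain ⟨i, hi⟩ := Subgroup.mem_zpowers_iff.mp y.2
    refine ⟨m₀, Subtype.ext ?_⟩
    rw [Subgroup.coe_pow, Subgroup.coe_one, ← hi, ← zpow_natCast, ← zpow_mul, mul_comm, zpow_mul,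
      zpow_natCast]
    rw [show (⟨⟨n₀, hn₀N⟩, hn₀C⟩ : CN) ^ 2 ^ m₀ = 1 from Subtype.ext (Subtype.ext hm₀), one_zpow]
  obtain ⟨P₀, hP₀⟩ := hz.exists_le_sylow
  set T : Subgroup N := (P₀ : Subgroup CN).map CN.subtype with hT
  have hTtop : Subgroup.normalizer (T : Set N) ⊔ CN = ⊤ := Sylow.normalizer_sup_eq_top P₀
  set S₀ : Subgroup G := T.map N.subtype with hS₀
  have hS₀N : S₀ ≤ N := Subgroup.map_subtype_le T
  have hS₀C : S₀ ≤ C := by
    rintro _ ⟨y, ⟨z, -, rfl⟩, rfl⟩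
    exact z.2
  have hS₀p : IsPGroup 2 S₀ := (P₀.isPGroup'.map _).map _
  have hn₀S : n₀ ∈ S₀ := ⟨⟨n₀, hn₀N⟩, ⟨_, hP₀ (Subgroup.mem_zpowers _), rfl⟩, rfl⟩
  -- `w`
  obtain ⟨w, hwK, hwC, hwN, hwS⟩ : ∃ w ∈ K, w ∉ C ∧ w ∈ N ∧ ∀ s ∈ S₀, w * s * w⁻¹ ∈ S₀ := by
    obtain ⟨q, hq, n, hn, hk⟩ := hfrat k₀
    have hnK : n ∈ K := (K.mul_mem_cancel_left (hCK (hQC hq))).mp (hk ▸ hk₀)
    have hnC : n ∉ C := fun hn' => hk₀C (hk ▸ C.mul_mem (hQC hq) hn')
    have hmem : (⟨n, hn⟩ : N) ∈ Subgroup.normalizer (T : Set N) ⊔ CN := hTtop ▸ Subgroup.mem_top _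
    obtain ⟨m, hm, c, hc, hmc⟩ := Subgroup.mem_sup_of_normal_right.mp hmem
    have hmc' : (m : G) * (c : G) = n := congrArg Subtype.val hmc
    have hcC : (c : G) ∈ C := hc
    refine ⟨(m : G), (K.mul_mem_cancel_right (hCK hcC)).mp (hmc' ▸ hnK),
      fun hmC => hnC (hmc' ▸ C.mul_mem hmC hcC), m.2, ?_⟩
    rintro _ ⟨s, hs, rfl⟩
    exact ⟨m * s * m⁻¹, (Subgroup.mem_normalizer_iff.mp hm s).mp hs, rfl⟩
  have hSfix : ∀ s ∈ S₀, w * s * w⁻¹ = s → s = 1 := by
    intro s hs hfix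
    by_contra hs1
    obtain ⟨m, hm⟩ := hS₀p ⟨s, hs⟩
    obtain ⟨i, hi, hi1, hi2⟩ := exists_involution (H := S₀ ⊓ Subgroup.centralizer {w})
      ⟨hs, Subgroup.mem_centralizer_singleton_iff.mpr (mul_inv_eq_iff_eq_mul.mp hfix).symm⟩ hs1
      (n := m) (by simpa using congrArg Subtype.val hm)
    exact hi1 (hfpf w hwK hwC i ((hVmem i).mpr hi2) (by
      rw [← Subgroup.mem_centralizer_singleton_iff.mp hi.2, mul_inv_cancel_right]))
  -- `R` is nilpotent
  haveI : Group.IsNilpotent R := by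
    let f : R →* Fb := ((QuotientGroup.mk' Q).comp R.subtype).codRestrict Fb fun r => hRF r.2
    refine Subgroup.isNilpotent_of_ker_le_center f (fun r hr => ?_)
    rw [MonoidHom.mem_ker] at hr
    have h1 : (r : G) ∈ Q := (QuotientGroup.eq_one_iff (r : G)).mp (congrArg Subtype.val hr)
    have h2 : (r : G) ∈ Q ⊓ R := ⟨h1, r.2⟩
    rw [hinf, Subgroup.mem_bot, OneMemClass.coe_eq_one] at h2
    rw [h2]
    exact Subgroup.one_mem _
  -- every element of `S₀` centralises `R`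
  have hkey : ∀ s ∈ S₀, s ∈ Q := by
    intro s hs
    let f : S₀ → S₀ := fun t => ⟨(t : G)⁻¹ * (w * t * w⁻¹), S₀.mul_mem (S₀.inv_mem t.2) (hwS t t.2)⟩
    have hinj : Function.Injective f := by
      intro t t' e
      have e' : (t : G)⁻¹ * (w * t * w⁻¹) = (t' : G)⁻¹ * (w * t' * w⁻¹) := congrArg Subtype.val e
      have h1 : w * ((t' : G) * (t : G)⁻¹) * w⁻¹ = (t' : G) * (t : G)⁻¹ := by
        calc w * ((t' : G) * (t : G)⁻¹) * w⁻¹
            = (t' : G) * ((t' : G)⁻¹ * (w * t' * w⁻¹)) * ((t : G)⁻¹ * (w * t * w⁻¹))⁻¹ * (t : G)⁻¹ := by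
              group
          _ = _ := by rw [e']; group
      exact Subtype.ext (mul_inv_eq_one.mp (hSfix _ (S₀.mul_mem t'.2 (S₀.inv_mem t.2)) h1)).symm
    obtain ⟨t, ht⟩ := Finite.surjective_of_injective hinj ⟨s, hs⟩
    have hts : (t : G)⁻¹ * w * t * w⁻¹ = s := by
      have e : (t : G)⁻¹ * (w * t * w⁻¹) = s := congrArg Subtype.val ht
      rw [← e]; group
    obtain ⟨ms, hms⟩ := hS₀p ⟨s, hs⟩
    have hms' : s ^ 2 ^ ms = 1 := by simpa using congrArg Subtype.val hms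
    set D : Subgroup R := (Subgroup.centralizer {s}).subgroupOf R with hD
    have hDtop : D = ⊤ := by
      rw [← Subgroup.index_eq_one]
      by_contra hne
      obtain ⟨r, hr, hdvd⟩ := Nat.exists_prime_and_dvd hne
      haveI : Fact r.Prime := ⟨hr⟩
      let P : Sylow r R := default
      haveI hPn : (P : Subgroup R).Normal :=
        P.normal_of_normalizerCondition Group.normalizerCondition_of_isNilpotent
      have hrodd : Odd r := hr.odd_of_ne_two fun e => by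
        have h1 : r ∣ Nat.card R := hdvd.trans D.index_dvd_card
        rw [e] at h1
        exact absurd (Nat.eq_one_of_dvd_coprimes hRcop h1 dvd_rfl) (by omega)
      set P' : Subgroup G := (P : Subgroup R).map R.subtype with hP'
      have hP'p : IsPGroup r P' := P.isPGroup'.map _
      have hnorm : ∀ g ∈ N, g ∈ Subgroup.normalizer (P' : Set G) := by
        intro g hg
        refine mem_normalizer_of_conj_mem ?_
        rintro _ ⟨y, hy, rfl⟩
        have hgy : g * (y : G) * g⁻¹ ∈ R := (Subgroup.mem_normalizer_iff.mp hg _).mp y.2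
        refine ⟨⟨_, hgy⟩, ?_, rfl⟩
        have hzp : IsPGroup r (Subgroup.zpowers (⟨_, hgy⟩ : R)) := by
          intro z
          obtain ⟨i, hi⟩ := Subgroup.mem_zpowers_iff.mp z.2
          obtain ⟨j, hj⟩ := P.isPGroup' ⟨y, hy⟩
          refine ⟨j, Subtype.ext ?_⟩
          rw [Subgroup.coe_pow, Subgroup.coe_one, ← hi, ← zpow_natCast, ← zpow_mul, mul_comm,
            zpow_mul, zpow_natCast]
          have hy' : (y : G) ^ r ^ j = 1 := by
            simpa using congrArg (fun z : (P : Subgroup R) => ((z : R) : G)) hj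
          rw [show (⟨_, hgy⟩ : R) ^ r ^ j = 1 from Subtype.ext (by
            simp only [Subgroup.coe_pow, Subgroup.coe_one]
            rw [conj_pow, hy', mul_one, mul_inv_cancel]), one_zpow]
        obtain ⟨P₁, hP₁⟩ := hzp.exists_le_sylow
        haveI : Subsingleton (Sylow r R) := (Sylow.unique_of_normal P hPn).instSubsingleton
        rw [Subsingleton.elim P₁ P] at hP₁
        exact hP₁ (Subgroup.mem_zpowers _)
      have hPD : (P : Subgroup R) ≤ D := by
        intro y hy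
        rw [hD, Subgroup.mem_subgroupOf, Subgroup.mem_centralizer_singleton_iff]
        have h1 := commutator_commute h hrodd P' hP'p ((Subgroup.map_subtype_le _).trans hRC)
          (hnorm t (hS₀N t.2)) (hS₀C t.2) (hnorm w hwN) hp (hKp w hwK) (hfpf w hwK hwC)
          (m := ms) (by rw [hts]; exact hms') (y : G) ⟨y, hy, rfl⟩
        rw [hts] at h1
        exact h1.symm
      exact P.not_dvd_index (hdvd.trans (Subgroup.index_dvd_of_le hPD))
    have hcent : ∀ r ∈ R, s * r = r * s := fun r hr => by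
      have : (⟨r, hr⟩ : R) ∈ D := hDtop ▸ Subgroup.mem_top _
      rw [hD, Subgroup.mem_subgroupOf, Subgroup.mem_centralizer_singleton_iff] at this
      exact this.symm
    have hsF : s ∈ F := CfsgLib.PSolvable.centralizer_fittingSubgroup_le
      (Subgroup.mem_centralizer_iff.mpr fun y hy => by
        obtain ⟨z, rfl⟩ := QuotientGroup.mk_surjective y
        have hzF : z ∈ Q ⊔ R := hsup.symm ▸ hy
        obtain ⟨a, ha, b, hb, rfl⟩ := Subgroup.mem_sup_of_normal_left.mp hzF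
        show ((a * b : G) : G ⧸ Q) * (s : G ⧸ Q) = (s : G ⧸ Q) * ((a * b : G) : G ⧸ Q)
        rw [QuotientGroup.mk_mul, (QuotientGroup.eq_one_iff a).mpr ha, one_mul, ← QuotientGroup.mk_mul,
          ← hcent b hb, QuotientGroup.mk_mul])
    exact mem_of_two_pow_eq_one hFodd s hsF (m := ms) (by rw [hms']; exact Q.one_mem)
  exact hn₀Q (hkey n₀ hn₀S)

end CfsgLib.TwoLength
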